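import Groth.Agent.S2363
import Mathlib.RingTheory.AdicCompletion.LocalRing
import Groth.Agent.FormalB.AdicNoeth
import Mathlib.RingTheory.AdicCompletion.AsTensorProduct
import Mathlib.RingTheory.Flat.FaithfullyFlat.Algebra
import Mathlib.FieldTheory.IsAlgClosed.AlgebraicClosure

/-!
# Faithfully flat complete local algebras with algebraically closed residue field

`exists_complete_algClosed`: every Noetherian local ring has a faithfully flat local algebra which
is a complete Noetherian local ring with algebraically closed residue field.
-/

set_option autoImplicit false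
universe u
open IsLocalRing

namespace K150.CplAlgClosed

theorem faithfullyFlat_completion (A : Type u) [CommRing A] [IsNoetherianRing A] [IsLocalRing A] :
    Module.FaithfullyFlat A (AdicCompletion (maximalIdeal A) A) :=
  Module.FaithfullyFlat.of_flat_of_isLocalHom

/-- The residue field of the completion. -/
noncomputable def residueEquiv (B : Type u) [CommRing B] [IsNoetherianRing B] [IsLocalRing B] :
    ResidueField (AdicCompletion (maximalIdeal B) B) ≃+* (B ⧸ maximalIdeal B) :=
  (Ideal.quotEquivOfEq (by
    rw [AdicCompletion.maximalIdeal_eq_map]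
    exact (AdicCompletion.ker_evalOneₐ_eq_map (maximalIdeal B)
      (maximalIdeal B).fg_of_isNoetherianRing).symm)).trans
    (RingHom.quotientKerEquivOfSurjective
      (f := (AdicCompletion.evalOneₐ (maximalIdeal B)).toRingHom)
      (AdicCompletion.evalOneₐ_surjective (maximalIdeal B)))

theorem exists_complete_algClosed (A : Type u) [CommRing A] [IsNoetherianRing A] [IsLocalRing A] :
    ∃ (B : Type u) (_ : CommRing B) (_ : IsNoetherianRing B) (_ : IsLocalRing B)
      (_ : IsAdicComplete (maximalIdeal B) B) (_ : IsAlgClosed (ResidueField B)) (_ : Algebra A B),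
      Module.FaithfullyFlat A B := by
  let K := AlgebraicClosure (ResidueField A)
  obtain ⟨B, i1, i2, i3, i4, i5, i6, e, he⟩ := Groth.Agent.S2363.result (A := A) K
  have hmax : ((maximalIdeal A).map (algebraMap A B)).IsMaximal := by
    apply Ideal.Quotient.maximal_of_isField
    exact e.toMulEquiv.isField (Field.toIsField K)
  have hm : (maximalIdeal A).map (algebraMap A B) = maximalIdeal B := eq_maximalIdeal hmax
  let e1 : (B ⧸ maximalIdeal B) ≃+* K := (Ideal.quotEquivOfEq hm.symm).trans e
  have h1 : IsAlgClosed (ResidueField (AdicCompletion (maximalIdeal B) B)) :=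
    IsAlgClosed.of_ringEquiv K _ ((residueEquiv B).trans e1).symm
  have h2 : Module.FaithfullyFlat A B := Module.FaithfullyFlat.of_flat_of_isLocalHom
  have h3 := faithfullyFlat_completion B
  have h4 : IsNoetherianRing (AdicCompletion (maximalIdeal B) B) :=
    Groth.Agent.FormalB.AdicNoeth.isNoetherianRing_adicCompletion (maximalIdeal B)
  exact ⟨AdicCompletion (maximalIdeal B) B, inferInstance, h4, inferInstance,
    inferInstance, h1, inferInstance, Module.FaithfullyFlat.trans A B _⟩

end K150.CplAlgClosed
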