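import Groth.Agent.Sga1.SectionSpread
import Groth.Agent.Ega43.LimitDescendIso
import Groth.Agent.CalgC.SpreadAlg

/-!
# Spreading out to open subschemes of an affine scheme

`IndOpen A C`: the `A`-algebra `C` is the filtered colimit of the rings of affine open subschemes of
`Spec A` (for example a localization of `A`). `W`-morphisms `X_C → E`, equality of such, and
properties which descend along limits come from such an open subscheme.
-/

set_option autoImplicit false
set_option backward.isDefEq.respectTransparency false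
set_option backward.isDefEq.respectTransparency.types false

open CategoryTheory CategoryTheory.Limits AlgebraicGeometry Opposite
open Groth.Agent.Sga1 Groth.Agent.Sga1.SectionSpread Groth.Agent.Ega43.LimitDescend

universe u

namespace K150.IndOpen

set_option linter.dupNamespace false in
/-- `C` is the filtered colimit of the rings of affine open subschemes of `Spec A`. -/
def IndOpen (A C : Type u) [CommRing A] [CommRing C] [Algebra A C] : Prop :=
  ∀ (P : Type u) [CommRing P] [Algebra A P] [Algebra.FinitePresentation A P] (φ : P →ₐ[A] C),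
    ∃ (E : Type u) (_ : CommRing E) (_ : Algebra A E) (_ : IsOpenImmersion (str A E))
      (ψ : P →ₐ[A] E) (χ : E →ₐ[A] C), χ.comp ψ = φ

/-- Localizations are `IndOpen`. -/
theorem indOpen_of_isLocalization {A : Type u} (C : Type u) [CommRing A] [CommRing C] [Algebra A C]
    (M : Submonoid A) [IsLocalization M C] : IndOpen A C := by
  intro P _ _ _ φ
  obtain ⟨m, hm, H⟩ := Groth.Agent.CalgC.SpreadAlg.exists_lift_away (R := A) (S := P) (T := A)
    (TM := C) M φ
  obtain ⟨ψ, hψ⟩ := H m dvd_rfl (Localization.Away m)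
  have hu : IsUnit (algebraMap A C m) := IsLocalization.map_units C (⟨m, hm⟩ : M)
  let χ : Localization.Away m →ₐ[A] C :=
    IsLocalization.liftAlgHom (M := Submonoid.powers m) (f := Algebra.ofId A C) (by
    rintro ⟨_, k, rfl⟩
    simpa [Algebra.ofId_apply] using hu.pow k)
  exact ⟨Localization.Away m, inferInstance, inferInstance, inferInstance, ψ, χ,
    AlgHom.ext fun x => hψ χ x⟩

theorem finitePresentation_of_isOpenImmersion (A E : Type u) [CommRing A] [CommRing E] [Algebra A E]
    [IsOpenImmersion (str A E)] : Algebra.FinitePresentation A E := by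
  have h : LocallyOfFinitePresentation (str A E) := inferInstance
  rw [HasRingHomProperty.Spec_iff (P := @LocallyOfFinitePresentation)] at h
  exact RingHom.finitePresentation_algebraMap.mp h

/-- `IndOpen` passes to intermediate open subschemes. -/
theorem of_tower {A C : Type u} [CommRing A] [CommRing C] [Algebra A C] (h : IndOpen A C)
    (E : Type u) [CommRing E] [Algebra A E] [Algebra E C] [IsScalarTower A E C]
    [IsOpenImmersion (str A E)] : IndOpen E C := by
  intro P _ _ _ φ
  let _ : Algebra A P := ((algebraMap E P).comp (algebraMap A E)).toAlgebra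
  have : IsScalarTower A E P := IsScalarTower.of_algebraMap_eq fun _ => rfl
  have := finitePresentation_of_isOpenImmersion A E
  have : Algebra.FinitePresentation A P := Algebra.FinitePresentation.trans A E P
  obtain ⟨E', _, _, h1, ψ, χ, h2⟩ := h P (φ.restrictScalars A)
  let _ : Algebra E E' := (ψ.toRingHom.comp (algebraMap E P)).toAlgebra
  have : IsScalarTower A E E' := IsScalarTower.of_algebraMap_eq fun x => by
    change algebraMap A E' x = ψ (algebraMap E P (algebraMap A E x))
    rw [← IsScalarTower.algebraMap_apply, ψ.commutes]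
  have h3 : str E E' ≫ str A E = str A E' := by
    rw [str, str, str, ← Spec.map_comp, ← CommRingCat.ofHom_comp, ← IsScalarTower.algebraMap_eq]
  have h4 : IsOpenImmersion (str E E' ≫ str A E) := by rw [h3]; exact h1
  have h5 : IsOpenImmersion (str E E') := IsOpenImmersion.of_comp _ (str A E)
  refine ⟨E', inferInstance, inferInstance, h5, { ψ with commutes' := fun x => rfl },
    { χ with commutes' := fun x => ?_ }, ?_⟩
  · change χ (ψ (algebraMap E P x)) = algebraMap E C x
    rw [← φ.commutes]
    exact DFunLike.congr_fun h2 (algebraMap E P x)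
  · ext x
    exact DFunLike.congr_fun h2 x

section sections

variable {A : Type u} [CommRing A] {X W : Scheme.{u}} (f : X ⟶ Spec (CommRingCat.of A))
  (p : X ⟶ W) (C : Type u) [CommRing C] [Algebra A C]

/-- Spreading out of `W`-morphisms `X_C → E`. -/
theorem exists_open (hC : IndOpen A C)
    [QuasiCompact f] [QuasiSeparated f] {E : Scheme.{u}} (π : E ⟶ W)
    [LocallyOfFinitePresentation π] (σ : bc f C ⟶ E) (hσ : σ ≫ π = pullback.fst f (str A C) ≫ p) :
    ∃ (B : Type u) (_ : CommRing B) (_ : Algebra A B) (_ : IsOpenImmersion (str A B))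
      (χ : B →ₐ[A] C) (τ : bc f B ⟶ E),
      τ ≫ π = pullback.fst f (str A B) ≫ p ∧ bcMap f χ ≫ τ = σ := by
  obtain ⟨P, _, _, _, φ, τ, h1, h2⟩ := exists_fp f p C π σ hσ
  obtain ⟨B, _, _, _, ψ, χ, h⟩ := hC P φ
  refine ⟨B, inferInstance, inferInstance, inferInstance, χ, bcMap f ψ ≫ τ, ?_, ?_⟩
  · rw [Category.assoc, h1, bcMap_fst_assoc]
  · rw [bcMap_comp_assoc, h, h2]

/-- Spreading out of equality of `W`-morphisms `X_B → E`. -/
theorem exists_open_eq (hC : IndOpen A C)
    [QuasiCompact f] {E : Scheme.{u}} (π : E ⟶ W)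
    [LocallyOfFiniteType π] (B : Type u) [CommRing B] [Algebra A B]
    [Algebra.FinitePresentation A B] (χ : B →ₐ[A] C)
    (σ τ : bc f B ⟶ E) (hσ : σ ≫ π = pullback.fst f (str A B) ≫ p)
    (hτ : τ ≫ π = pullback.fst f (str A B) ≫ p) (h : bcMap f χ ≫ σ = bcMap f χ ≫ τ) :
    ∃ (B' : Type u) (_ : CommRing B') (_ : Algebra A B') (_ : IsOpenImmersion (str A B'))
      (ψ : B →ₐ[A] B') (χ' : B' →ₐ[A] C),
      χ'.comp ψ = χ ∧ bcMap f ψ ≫ σ = bcMap f ψ ≫ τ := by
  obtain ⟨P, _, _, ψ, χ', hfp, h1, h2⟩ := exists_fp_eq f p C π B χ σ τ hσ hτ h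
  have : Algebra.FinitePresentation A P := by
    have h3 : (algebraMap A B).FinitePresentation := RingHom.finitePresentation_algebraMap.mpr ‹_›
    have h4 := hfp.comp h3
    have h5 : ψ.toRingHom.comp (algebraMap A B) = algebraMap A P := ψ.comp_algebraMap
    rw [h5] at h4
    exact RingHom.finitePresentation_algebraMap.mp h4
  obtain ⟨B', _, _, _, ψ', χ'', h3⟩ := hC P χ'
  refine ⟨B', inferInstance, inferInstance, inferInstance, ψ'.comp ψ, χ'', ?_, ?_⟩
  · rw [← AlgHom.comp_assoc, h3, h1]
  · rw [← bcMap_comp_assoc, ← bcMap_comp_assoc, h2]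

/-- Properties which descend along limits, of morphisms between base changes. -/
theorem exists_open_prop {P : MorphismProperty Scheme.{u}} [P.IsStableUnderBaseChange]
    (hP : DescendsLim P) (hC : IndOpen A C) {Y : Scheme.{u}} (g : Y ⟶ Spec (CommRingCat.of A))
    [QuasiCompact g] [QuasiSeparated g]
    (B : Type u) [CommRing B] [Algebra A B]
    [Algebra.FinitePresentation A B] (χ : B →ₐ[A] C) (θ : bc f B ⟶ bc g B)
    [LocallyOfFinitePresentation θ] [QuasiCompact θ] [QuasiSeparated θ]
    (θ' : bc f C ⟶ bc g C) (hθ : IsPullback (bcMap f χ) θ' θ (bcMap g χ)) (h : P θ') :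
    ∃ (B' : Type u) (_ : CommRing B') (_ : Algebra A B') (_ : IsOpenImmersion (str A B'))
      (ψ : B →ₐ[A] B') (χ' : B' →ₐ[A] C), χ'.comp ψ = χ ∧
      ∀ (θ'' : bc f B' ⟶ bc g B') (_ : IsPullback (bcMap f ψ) θ'' θ (bcMap g ψ)), P θ'' := by
  let _ : Algebra B C := χ.toRingHom.toAlgebra
  have : IsScalarTower A B C := IsScalarTower.of_algebraMap_eq fun x ↦ (χ.commutes x).symm
  have hχ : IsScalarTower.toAlgHom A B C = χ := by ext x; rfl
  have e : ∀ j : FPColim.Idx B C, (toCA B C j).comp
      (IsScalarTower.toAlgHom A B (FPColim.Stage j)) = IsScalarTower.toAlgHom A B C := by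
    intro j
    ext x
    exact (FPColim.toC j).commutes x
  have e' : ∀ {i j : FPColim.Idx B C} (hij : i ≤ j), (transA B C hij).comp
      (IsScalarTower.toAlgHom A B (FPColim.Stage i)) =
        IsScalarTower.toAlgHom A B (FPColim.Stage j) := by
    intro i j hij
    ext x
    exact (FPColim.trans hij).commutes x
  have : IsCofiltered (FPColim.Idx B C)ᵒᵖ := inferInstance
  have i1 : ∀ {i j : (FPColim.Idx B C)ᵒᵖ} (φ : i ⟶ j), IsAffineHom ((diag g B C).map φ) :=
    inferInstance
  have i2 : ∀ j : (FPColim.Idx B C)ᵒᵖ, CompactSpace ((diag g B C).obj j) := inferInstance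
  have i3 : ∀ j : (FPColim.Idx B C)ᵒᵖ, QuasiSeparatedSpace ((diag g B C).obj j) := inferInstance
  let t : ∀ j : (FPColim.Idx B C)ᵒᵖ, (diag g B C).obj j ⟶ bc g B := fun j =>
    bcMap g (IsScalarTower.toAlgHom A B (FPColim.Stage j.unop))
  obtain ⟨j, hj⟩ := hP (diag g B C) (cone g B C) (isLimitCone g B C) t (fun {i j} φ => by
      have : bcMap g (transA B C φ.unop.le) ≫
          bcMap g (IsScalarTower.toAlgHom A B (FPColim.Stage j.unop)) =
            bcMap g (IsScalarTower.toAlgHom A B (FPColim.Stage i.unop)) := by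
        rw [bcMap_comp, e']
      exact this) θ (bcMap g χ) (fun j => by
      have : bcMap g (toCA B C j.unop) ≫
          bcMap g (IsScalarTower.toAlgHom A B (FPColim.Stage j.unop)) = bcMap g χ := by
        rw [bcMap_comp, e, hχ]
      exact this) (bcMap f χ) θ' hθ h
  let St := FPColim.Stage j.unop
  have : Algebra.FinitePresentation A St := Algebra.FinitePresentation.trans A B St
  obtain ⟨B', _, _, _, ψ', χ', h3⟩ := hC St (toCA B C j.unop)
  refine ⟨B', inferInstance, inferInstance, inferInstance,
    ψ'.comp (IsScalarTower.toAlgHom A B St), χ', ?_, ?_⟩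
  · rw [← AlgHom.comp_assoc, h3, e, hχ]
  · intro θ'' hθ''
    have hw : bcMap f (ψ'.comp (IsScalarTower.toAlgHom A B St)) ≫ θ = (θ'' ≫ bcMap g ψ') ≫ t j := by
      rw [hθ''.w, Category.assoc, ← bcMap_comp]
    have hpb : IsPullback (pullback.lift (bcMap f (ψ'.comp (IsScalarTower.toAlgHom A B St)))
        (θ'' ≫ bcMap g ψ') hw) θ'' (pullback.snd θ (t j)) (bcMap g ψ') := by
      refine IsPullback.of_right (h₁₂ := pullback.fst θ (t j)) (v₁₃ := θ) (h₂₂ := t j) ?_
        (pullback.lift_snd _ _ _) (IsPullback.of_hasPullback _ _)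
      have e2 : bcMap g ψ' ≫ t j = bcMap g (ψ'.comp (IsScalarTower.toAlgHom A B St)) :=
        bcMap_comp g _ _
      rw [pullback.lift_fst, e2]
      exact hθ''
    exact P.of_isPullback hpb hj

end sections

end K150.IndOpen
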