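import Groth.Agent.Hensel.LocalSplit
import Groth.Agent.Sga1.SigmaFinite
import Groth.Agent.Sga1.SecRep
import Mathlib.RingTheory.Henselian

/-!
# Universally submersive morphisms to the spectrum of a henselian local ring
-/

set_option autoImplicit false
set_option backward.isDefEq.respectTransparency false
set_option backward.isDefEq.respectTransparency.types false

open CategoryTheory CategoryTheory.Limits AlgebraicGeometry

universe u

namespace K150.LocSub

theorem univSubmersive_of_comp {X Y Z : Scheme.{u}} (f : X ⟶ Y) (g : Y ⟶ Z)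
    (h : SGA1.UnivSubmersive (f ≫ g)) : SGA1.UnivSubmersive g := by
  intro Y' Z' i₁ i₂ g' hpb
  have h1 := h _ _ _ ((IsPullback.of_hasPullback i₁ f).paste_horiz hpb)
  have h2 : Topology.IsQuotientMap (g' ∘ (pullback.fst i₁ f)) := by
    have h3 : ⇑((pullback.fst i₁ f) ≫ g') = g' ∘ (pullback.fst i₁ f) := by
      ext x; exact Scheme.Hom.comp_apply _ _ _
    rw [← h3]
    exact h1
  exact Topology.IsQuotientMap.of_comp (pullback.fst i₁ f).continuous g'.continuous h2

theorem quasiFiniteAt_of_finite {R S : Type u} [CommRing R] [CommRing S] [Algebra R S]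
    [Algebra.FiniteType R S] (q : PrimeSpectrum S)
    (h : (PrimeSpectrum.comap (algebraMap R S) ⁻¹' {q.comap (algebraMap R S)}).Finite) :
    Algebra.QuasiFiniteAt R q.asIdeal := by
  apply Algebra.QuasiFiniteAt.of_isOpen_singleton_fiber
  let p := q.comap (algebraMap R S)
  let e := PrimeSpectrum.preimageHomeomorphFiber R S p
  have h1 : Finite (PrimeSpectrum (p.asIdeal.Fiber S)) := by
    have : Finite (PrimeSpectrum.comap (algebraMap R S) ⁻¹' {q.comap (algebraMap R S)}) := h
    exact Finite.of_equiv _ e.toEquiv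
  have h2 : IsJacobsonRing (p.asIdeal.Fiber S) :=
    isJacobsonRing_of_finiteType (A := p.asIdeal.ResidueField)
  have h3 : DiscreteTopology (PrimeSpectrum (p.asIdeal.Fiber S)) := inferInstance
  have h4 : DiscreteTopology
      (PrimeSpectrum.comap (algebraMap R S) ⁻¹' {q.comap (algebraMap R S)}) :=
    e.symm.discreteTopology
  exact isOpen_discrete _

theorem exists_idem (A B : Type u) [CommRing A] [HenselianLocalRing A] [CommRing B] [Algebra A B]
    [Algebra.FiniteType A B] (x : PrimeSpectrum B)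
    (hx : x.comap (algebraMap A B) = IsLocalRing.closedPoint A)
    (hfin : (PrimeSpectrum.comap (algebraMap A B) ⁻¹' {IsLocalRing.closedPoint A}).Finite) :
    ∃ e : B, IsIdempotentElem e ∧ e ∉ x.asIdeal ∧ Module.Finite A (B ⧸ Ideal.span {1 - e}) := by
  have h1 : Algebra.QuasiFiniteAt A x.asIdeal := by
    apply quasiFiniteAt_of_finite
    rw [hx]
    exact hfin
  have h2 : x.asIdeal.LiesOver (IsLocalRing.maximalIdeal A) :=
    ⟨(congrArg PrimeSpectrum.asIdeal hx).symm⟩
  obtain ⟨e, h3, h4, h5, -⟩ :=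
    Groth.Agent.Hensel.LocalSplit.exists_isIdempotentElem_of_quasiFiniteAt (R := A) x.asIdeal
  exact ⟨e, h3, h4, h5⟩

/-- A point with finite fibre over the closed point of a henselian local ring has an open
neighbourhood finite over the base. -/
theorem exists_finite_nbhd (A : Type u) [CommRing A] [HenselianLocalRing A]
    {S' : Scheme.{u}} (g : S' ⟶ Spec (CommRingCat.of A)) [LocallyOfFiniteType g]
    (hfin : (g ⁻¹' {IsLocalRing.closedPoint A}).Finite) (t : S')
    (ht : g t = IsLocalRing.closedPoint A) :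
    ∃ (V : Scheme.{u}) (j : V ⟶ S'), IsOpenImmersion j ∧ IsFinite (j ≫ g) ∧ t ∈ Set.range j := by
  obtain ⟨B, j₀, x, hj₀, hx⟩ : ∃ (B : CommRingCat.{u}) (j₀ : Spec B ⟶ S') (x : Spec B),
      IsOpenImmersion j₀ ∧ j₀ x = t := by
    obtain ⟨i, x, hx⟩ := S'.affineOpenCover.openCover.exists_eq t
    exact ⟨S'.affineOpenCover.X i, S'.affineOpenCover.f i, x, inferInstance, hx⟩
  obtain ⟨φ, hφ⟩ := Spec.map_surjective (j₀ ≫ g)
  let _ : Algebra A B := φ.hom.toAlgebra
  have hφf : φ.hom.FiniteType := by
    have : LocallyOfFiniteType (Spec.map φ) := by rw [hφ]; infer_instance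
    exact (HasRingHomProperty.Spec_iff (P := @LocallyOfFiniteType)).mp this
  have hft : Algebra.FiniteType A B := hφf
  have hpt : ∀ y : Spec B, PrimeSpectrum.comap (algebraMap A B) y = g (j₀ y) := by
    intro y
    rw [← Scheme.Hom.comp_apply, ← hφ]
    rfl
  obtain ⟨e, he, hex, hfinite⟩ := exists_idem A B x ((hpt x).trans (by rw [hx, ht])) (by
    refine Set.Finite.of_finite_image (f := j₀) (hfin.subset ?_) j₀.isOpenEmbedding.injective.injOn
    rintro _ ⟨y, hy, rfl⟩
    exact (hpt y).symm.trans hy)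
  let C : Type u := B ⧸ Ideal.span {1 - e}
  have hloc : IsLocalization.Away e C := IsLocalization.Away.quotient_of_isIdempotentElem he
  let ψ : B ⟶ CommRingCat.of C := CommRingCat.ofHom (algebraMap B C)
  have hψ : IsOpenImmersion (Spec.map ψ) := IsOpenImmersion.of_isLocalization (R := B) (S := C) e
  refine ⟨Spec (CommRingCat.of C), Spec.map ψ ≫ j₀, inferInstance, ?_, ?_⟩
  · rw [Category.assoc, ← hφ, ← Spec.map_comp, IsFinite.SpecMap_iff]
    exact RingHom.finite_algebraMap.mpr hfinite
  · have hr : x ∈ Set.range (Spec.map ψ) := by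
      have := PrimeSpectrum.localization_away_comap_range C e
      change x ∈ Set.range (PrimeSpectrum.comap (algebraMap B C))
      rw [this]
      exact hex
    obtain ⟨y, hy⟩ := hr
    exact ⟨y, by rw [Scheme.Hom.comp_apply, hy, hx]⟩

theorem univSubmersive (A : Type u) [CommRing A] [HenselianLocalRing A]
    {S' : Scheme.{u}} (g : S' ⟶ Spec (CommRingCat.of A)) [LocallyOfFiniteType g]
    [Surjective g]
    (hfin : (g ⁻¹' {IsLocalRing.closedPoint A}).Finite)
    (hsp : ∀ t : S', ∃ s' : S', g s' = IsLocalRing.closedPoint A ∧ t ⤳ s') :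
    SGA1.UnivSubmersive g := by
  let F := g ⁻¹' {IsLocalRing.closedPoint A}
  have hF : Finite F := hfin
  choose V j hj hjf hjr using fun t : F => exists_finite_nbhd A g hfin t.1 t.2
  let π : (∐ V) ⟶ S' := Sigma.desc j
  have hπg : π ≫ g = Sigma.desc (fun t => j t ≫ g) := by
    apply Sigma.hom_ext
    intro t
    rw [Sigma.ι_desc_assoc, Sigma.ι_desc]
  have hπf : IsFinite (π ≫ g) := by
    rw [hπg]
    exact Groth.Agent.Sga1.SigmaFinite.isFinite_sigmaDesc _
  have hπs : Surjective π := by
    refine ⟨fun t => ?_⟩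
    obtain ⟨s', hs', hts⟩ := hsp t
    have h1 : t ∈ Set.range (j ⟨s', hs'⟩) :=
      hts.mem_open (j ⟨s', hs'⟩).isOpenEmbedding.isOpen_range (hjr _)
    obtain ⟨y, hy⟩ := h1
    refine ⟨Sigma.ι V ⟨s', hs'⟩ y, ?_⟩
    rw [← Scheme.Hom.comp_apply, Sigma.ι_desc]
    exact hy
  have : Surjective (π ≫ g) := inferInstance
  exact univSubmersive_of_comp π g
    (Groth.Agent.Sga1.SecRep.univSubmersive_of_universallyClosed (π ≫ g))

theorem univSubmersive_of_isAdicComplete (A : Type u) [CommRing A] [IsLocalRing A]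
    [IsAdicComplete (IsLocalRing.maximalIdeal A) A]
    {S' : Scheme.{u}} (g : S' ⟶ Spec (CommRingCat.of A)) [LocallyOfFiniteType g]
    [Surjective g]
    (hfin : (g.base ⁻¹' {IsLocalRing.closedPoint A}).Finite)
    (hsp : ∀ t : S', ∃ s' : S', g.base s' = IsLocalRing.closedPoint A ∧ t ⤳ s') :
    SGA1.UnivSubmersive g :=
  have : HenselianLocalRing A :=
    { is_henselian := fun f hf a₀ h₁ h₂ =>
        HenselianRing.is_henselian (I := IsLocalRing.maximalIdeal A) f hf a₀ h₁
          (h₂.map (Ideal.Quotient.mk (IsLocalRing.maximalIdeal A))) }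
  univSubmersive A g hfin hsp

end K150.LocSub
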