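import Groth.Agent.SGA1.K150.Fam
import Groth.Agent.Fdesc.QuasiCompactTop
import Groth.Agent.Desc.ZarGlue
import Groth.Agent.S2906

/-!
# Effectivity of etale descent data: localization on the base for the Zariski and fpqc topologies
-/

set_option autoImplicit false
set_option maxHeartbeats 400000
set_option backward.isDefEq.respectTransparency false
set_option backward.isDefEq.respectTransparency.types false
open CategoryTheory CategoryTheory.Limits AlgebraicGeometry Opposite
universe u
open _root_.Desc Groth.Agent.Desc.SecFunctor Groth.Agent.Desc.SecPresheaf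
  Groth.Agent.Desc.SecDescent

namespace K150.Eff

/-- Faithfully flat quasi-compact morphisms are universally submersive. -/
theorem univSubmersive_of_fpqc {X Y : Scheme.{u}} (f : X ⟶ Y) [Flat f] [Surjective f]
    [QuasiCompact f] : SGA1.UnivSubmersive f := by
  intro X' Y' i₁ i₂ f' hpb
  have h1 : Flat f' := MorphismProperty.of_isPullback hpb.flip inferInstance
  have h2 : Surjective f' := MorphismProperty.of_isPullback hpb.flip inferInstance
  have h3 : QuasiCompact f' := MorphismProperty.of_isPullback hpb.flip inferInstance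
  exact Groth.Agent.Fdesc.QuasiCompactTop.isQuotientMap_of_generalizingMap f'
    (Flat.generalizingMap f')

variable {X S : Scheme.{u}} {g : X ⟶ S}

/-- Representability of the sections of an etale descent datum (by an etale separated quasi-compact
scheme) can be checked after a faithfully flat quasi-compact base change. -/
theorem exists_rep_of_fpqc (D : SchDD g) [Etale D.obj.hom] {S₁ : Scheme.{u}} (p : S₁ ⟶ S) [Flat p]
    [Surjective p] [QuasiCompact p] (U₁ : Over S₁) [Etale U₁.hom] [IsSeparated U₁.hom]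
    [QuasiCompact U₁.hom] (e : (restr p (secFunctor D)).RepresentableBy U₁) :
    ∃ U : Over S, Etale U.hom ∧ IsSeparated U.hom ∧ QuasiCompact U.hom ∧
      Nonempty ((secFunctor D).RepresentableBy U) := by
  have hp : SGA1.UnivSubmersive p := univSubmersive_of_fpqc p
  have hF : IsPSheaf p (secFunctor D) := fun T =>
    Groth.Agent.Sga1.SecEtale.isDesc_of_univSubmersive D (projT p T)
      (MorphismProperty.pullback_snd _ _ hp)
  have h1 : Etale (ofPresheaf e).obj.hom := ‹Etale U₁.hom›
  have h2 : IsSeparated (ofPresheaf e).obj.hom := ‹IsSeparated U₁.hom›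
  have h3 : QuasiCompact (ofPresheaf e).obj.hom := ‹QuasiCompact U₁.hom›
  obtain ⟨U, h4, h5, h6, ⟨i⟩⟩ := Groth.Agent.S2906.result p (ofPresheaf e)
  exact ⟨U, h6, h5, h4, ⟨(Groth.Agent.Sga1.SecLocal.representableByOfIso
    (Groth.Agent.Sga1.SecLocal.map_bijective p hp · U) i).ofIso (isoSec e hF).symm⟩⟩

/-- Base change of effectivity. -/
theorem exists_pull {S' : Scheme.{u}} (hg : SGA1.UnivSubmersive g) (q : S' ⟶ S)
    (D : SchDDFam (fun _ : PUnit.{1} => g)) (U : Over S) [Etale U.hom]
    (h : Nonempty ((toDDFam (fun _ : PUnit.{1} => g)).obj U ≅ D)) :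
    Etale ((Over.pullback q).obj U).hom ∧
      Nonempty ((toDDFam (fun _ : PUnit.{1} => pullback.snd g q)).obj ((Over.pullback q).obj U) ≅
        Fam.pull q D) := by
  obtain ⟨r⟩ := (Fam.eff_iff hg D U).1 h
  have h5 : Etale ((Over.pullback q).obj U).hom := MorphismProperty.pullback_snd _ _ ‹Etale U.hom›
  exact ⟨h5, (Fam.eff_pull_iff hg q D _).2 ⟨pullRep q r⟩⟩

theorem iff_fpqc {S₁ : Scheme.{u}} (hg : SGA1.UnivSubmersive g)
    (D : SchDDFam (fun _ : PUnit.{1} => g)) [Etale (D.obj PUnit.unit).hom]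
    (p : S₁ ⟶ S) [Flat p] [Surjective p] [QuasiCompact p] :
    (∃ U : Over S, Etale U.hom ∧ IsSeparated U.hom ∧ QuasiCompact U.hom ∧
        Nonempty ((toDDFam (fun _ : PUnit.{1} => g)).obj U ≅ D)) ↔
      (∃ U : Over S₁, Etale U.hom ∧ IsSeparated U.hom ∧ QuasiCompact U.hom ∧
        Nonempty ((toDDFam (fun _ : PUnit.{1} => pullback.snd g p)).obj U ≅ Fam.pull p D)) := by
  have hD : Etale (Fam.toOne D).obj.hom := ‹Etale (D.obj PUnit.unit).hom›
  constructor
  · rintro ⟨U, h1, h2, h3, h4⟩
    obtain ⟨h5, h6⟩ := exists_pull hg p D U h4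
    exact ⟨(Over.pullback p).obj U, h5, MorphismProperty.pullback_snd _ _ h2,
      MorphismProperty.pullback_snd _ _ h3, h6⟩
  · rintro ⟨U, h1, h2, h3, h4⟩
    obtain ⟨r⟩ := (Fam.eff_pull_iff hg p D U).1 h4
    obtain ⟨U', h5, h6, h7, h8⟩ := exists_rep_of_fpqc (Fam.toOne D) p U r
    exact ⟨U', h5, h6, h7, (Fam.eff_iff hg D U').2 h8⟩

theorem iff_openCover (hg : SGA1.UnivSubmersive g)
    (D : SchDDFam (fun _ : PUnit.{1} => g)) [Etale (D.obj PUnit.unit).hom]
    {ι : Type u} (V : ι → S.Opens) (hV : ⨆ i, V i = ⊤) :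
    (∃ U : Over S, Etale U.hom ∧ Nonempty ((toDDFam (fun _ : PUnit.{1} => g)).obj U ≅ D)) ↔
      ∀ i : ι, (∃ U : Over (V i : Scheme.{u}), Etale U.hom ∧
        Nonempty ((toDDFam (fun _ : PUnit.{1} => pullback.snd g (V i).ι)).obj U ≅
          Fam.pull (V i).ι D)) := by
  constructor
  · rintro ⟨U, h1, h2⟩ i
    exact ⟨_, exists_pull hg (V i).ι D U h2⟩
  · intro H
    choose U h1 h2 using H
    have r := fun i => (Fam.eff_pull_iff hg (V i).ι D (U i)).1 (h2 i)
    have hs : ∀ s : S, ∃ i, s ∈ V i := by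
      intro s
      have : s ∈ (⨆ i, V i : S.Opens) := by rw [hV]; trivial
      simpa using this
    obtain ⟨U', h3, h4⟩ := Groth.Agent.Desc.ZarGlue.exists_rep_of_openCover_prop V hs U
      (fun i => (r i).some)
      (Groth.Agent.Desc.ZarSec.isZarSheaf_secFunctor _) @Etale h1
    exact ⟨U', h3, (Fam.eff_iff hg D U').2 h4⟩

end K150.Eff
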