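import Groth.Agent.Sga1.SecRep
import Groth.Agent.S5132

/-!
# Properties of the scheme representing the sections of a descent datum

`prop_of_rep`: if `U` represents the sections of `D` over `T`, a property of `D.obj ⟶ X` stable
under base change and descending along base changes of `X ⟶ S` holds for `U ⟶ T`.
-/

set_option autoImplicit false
set_option backward.isDefEq.respectTransparency false
set_option backward.isDefEq.respectTransparency.types false

open CategoryTheory CategoryTheory.Limits AlgebraicGeometry Opposite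
open _root_.Desc Groth.Agent.Desc.SecFunctor Groth.Agent.Desc.SecPresheaf
  Groth.Agent.Desc.SecDescent Groth.Agent.Desc.ZarGlue SGA1
open Groth.Agent.Sga1.SecRep

universe u

namespace K150.RepProps

variable {X S : Scheme.{u}} {g : X ⟶ S}

theorem prop_of_rep (P Q : MorphismProperty Scheme.{u}) [P.IsStableUnderBaseChange]
    [P.DescendsAlong Q] [Q.IsStableUnderBaseChange] (hg : Q g) (D : SchDD g) {T : Scheme.{u}}
    (q : T ⟶ S) (U : Over T) (r : (restr q (secFunctor D)).RepresentableBy U)
    (hD : P D.obj.hom) : P U.hom := by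
  let x : pullback g (U.hom ≫ q) ⟶ X := pullback.fst _ _
  let w : pullback g (U.hom ≫ q) ⟶ U.left := pullback.snd _ _
  have hW : IsPullback x w g (U.hom ≫ q) := IsPullback.of_hasPullback _ _
  let a : (restr q (secFunctor D)).obj (op U) := r.homEquiv (𝟙 U)
  let e : pullback g (U.hom ≫ q) ⟶ D.obj.left :=
    (ev (T := (Over.map q).obj U) a w x hW.w).1
  have he : e ≫ D.obj.hom = x := (ev (T := (Over.map q).obj U) a w x hW.w).2
  have hw : e ≫ D.obj.hom ≫ g = (w ≫ U.hom) ≫ q := by
    rw [← Category.assoc, he, hW.w, Category.assoc]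
  let θ : pullback g (U.hom ≫ q) ⟶ pullback (D.obj.hom ≫ g) q := pullback.lift e (w ≫ U.hom) hw
  have hθ : IsIso θ := isIso_of_representableBy (T := Over.mk q) D U r x w hW
    (pullback.fst (D.obj.hom ≫ g) q) (pullback.snd (D.obj.hom ≫ g) q)
    (IsPullback.of_hasPullback _ _) θ (pullback.lift_fst _ _ _) (pullback.lift_snd _ _ _)
  -- the two projections to `X_T`
  let m : pullback (D.obj.hom ≫ g) q ⟶ pullback g q :=
    pullback.lift (pullback.fst (D.obj.hom ≫ g) q ≫ D.obj.hom) (pullback.snd (D.obj.hom ≫ g) q)
      (by rw [Category.assoc, pullback.condition])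
  have hm : IsPullback (pullback.fst (D.obj.hom ≫ g) q) m D.obj.hom (pullback.fst g q) := by
    refine IsPullback.of_bot (h₃₁ := q) (v₂₁ := pullback.snd g q) (v₂₂ := g) ?_
      (pullback.lift_fst _ _ _).symm (IsPullback.of_hasPullback g q)
    rw [pullback.lift_snd]
    exact IsPullback.of_hasPullback (D.obj.hom ≫ g) q
  let n : pullback g (U.hom ≫ q) ⟶ pullback g q :=
    pullback.lift x (w ≫ U.hom) (by rw [hW.w, Category.assoc])
  have hn : IsPullback w n U.hom (pullback.snd g q) := by
    refine (IsPullback.of_bot (h₃₁ := g) (v₂₁ := pullback.fst g q) (v₂₂ := q) ?_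
      (pullback.lift_snd _ _ _).symm (IsPullback.of_hasPullback g q).flip)
    rw [pullback.lift_fst]
    exact hW.flip
  have hnm : n = θ ≫ m := by
    apply pullback.hom_ext
    · rw [pullback.lift_fst, Category.assoc, pullback.lift_fst, pullback.lift_fst_assoc, he]
    · rw [pullback.lift_snd, Category.assoc, pullback.lift_snd, pullback.lift_snd]
  have := MorphismProperty.IsStableUnderBaseChange.respectsIso (P := P)
  have h1 : P n := by
    rw [hnm, P.cancel_left_of_respectsIso]
    exact P.of_isPullback hm hD
  have h2 : Q (pullback.snd g q) := MorphismProperty.pullback_snd _ _ hg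
  exact MorphismProperty.of_isPullback_of_descendsAlong (P := P) (Q := Q) hn.flip h2 h1

instance : MorphismProperty.DescendsAlong @QuasiCompact
    (@Surjective ⊓ @QuasiCompact : MorphismProperty Scheme.{u}) := Groth.Agent.S5132.result

instance : MorphismProperty.DescendsAlong @QuasiSeparated
    (@Surjective ⊓ @QuasiCompact : MorphismProperty Scheme.{u}) := by
  rw [quasiSeparated_eq_diagonal_is_quasiCompact]
  have : MorphismProperty.RespectsIso (@QuasiCompact : MorphismProperty Scheme.{u}) :=
    MorphismProperty.IsStableUnderBaseChange.respectsIso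
  infer_instance

theorem quasiCompact_of_rep (hg : UnivSubmersive g) [QuasiCompact g] (D : SchDD g)
    {T : Scheme.{u}} (q : T ⟶ S) (U : Over T) (r : (restr q (secFunctor D)).RepresentableBy U)
    [QuasiCompact D.obj.hom] : QuasiCompact U.hom :=
  have : Surjective g := Groth.Agent.Sga1.UnivSub.surjective hg
  prop_of_rep @QuasiCompact (@Surjective ⊓ @QuasiCompact) ⟨this, ‹_›⟩ D q U r ‹_›

theorem quasiSeparated_of_rep (hg : UnivSubmersive g) [QuasiCompact g] (D : SchDD g)
    {T : Scheme.{u}} (q : T ⟶ S) (U : Over T) (r : (restr q (secFunctor D)).RepresentableBy U)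
    [QuasiSeparated D.obj.hom] : QuasiSeparated U.hom :=
  have : Surjective g := Groth.Agent.Sga1.UnivSub.surjective hg
  prop_of_rep @QuasiSeparated (@Surjective ⊓ @QuasiCompact) ⟨this, ‹_›⟩ D q U r ‹_›

theorem isSeparated_of_rep (hg : UnivSubmersive g) (D : SchDD g)
    {T : Scheme.{u}} (q : T ⟶ S) (U : Over T) (r : (restr q (secFunctor D)).RepresentableBy U)
    [IsSeparated D.obj.hom] : IsSeparated U.hom :=
  prop_of_rep @IsSeparated UnivSubmersive hg D q U r ‹_›

end K150.RepProps
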