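import Groth.Agent.SGA1.K150.IndOpen
import Groth.Agent.Unram17.K135.LimUnram
import Groth.Agent.AlgSp.K601.Stage

/-!
# Spreading out etale schemes over a localization

`exists_etale_model`: an etale quasi-compact quasi-separated scheme over `Spec C`, with `IndOpen A C`,
is the base change of an etale quasi-compact quasi-separated scheme over an affine open subscheme
of `Spec A`.
-/

set_option autoImplicit false
set_option backward.isDefEq.respectTransparency false
set_option backward.isDefEq.respectTransparency.types false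

open CategoryTheory CategoryTheory.Limits AlgebraicGeometry Opposite
open Groth.Agent.Sga1 Groth.Agent.Sga1.SectionSpread
open K150.IndOpen

universe u

namespace K150.EtModel

theorem exists_etale_model {A C : Type u} [CommRing A] [CommRing C] [Algebra A C]
    (hC : IndOpen A C) {U : Scheme.{u}} (u : U ⟶ Spec (CommRingCat.of C)) [Etale u] [QuasiCompact u]
    [QuasiSeparated u] :
    ∃ (B : Type u) (_ : CommRing B) (_ : Algebra A B) (_ : IsOpenImmersion (str A B))
      (χ : B →ₐ[A] C) (N : Scheme.{u}) (ν : N ⟶ Spec (CommRingCat.of B)) (q : U ⟶ N),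
      Etale ν ∧ QuasiCompact ν ∧ QuasiSeparated ν ∧ IsPullback q u ν (sp χ) := by
  have : IsCofiltered (FPColim.Idx A C)ᵒᵖ := inferInstance
  have i1 : ∀ (i j : (FPColim.Idx A C)ᵒᵖ) (φ : i ⟶ j), IsAffineHom ((specDiag A C).map φ) :=
    fun i j φ => inferInstanceAs (IsAffineHom (Spec.map ((FPColim.ringDiagram A C).map φ.unop)))
  have i2 : ∀ j : (FPColim.Idx A C)ᵒᵖ, CompactSpace ((specDiag A C).obj j) :=
    fun j => inferInstanceAs (CompactSpace (Spec _))
  have i3 : ∀ j : (FPColim.Idx A C)ᵒᵖ, QuasiSeparatedSpace ((specDiag A C).obj j) :=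
    fun j => inferInstanceAs (QuasiSeparatedSpace (Spec _))
  let u' : U ⟶ (specCone A C).pt := u
  have k1 : LocallyOfFinitePresentation u' := inferInstanceAs (LocallyOfFinitePresentation u)
  have k2 : QuasiCompact u' := ‹QuasiCompact u›
  have k3 : QuasiSeparated u' := ‹QuasiSeparated u›
  have k4 : Etale u' := ‹Etale u›
  obtain ⟨i, Xi, fi, g, h1, h2, h3, h4⟩ := Groth.Agent.S0591.result (specDiag A C) (specCone A C)
    (isLimitSpecCone A C) U u'
  obtain ⟨j, φ, hj⟩ := K601.Stage.exists_descend_stage
    Groth.Agent.Unram17.K135.LimUnram.descendsAffine_etale (specDiag A C) (specCone A C)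
    (isLimitSpecCone A C) i fi u' g h4 ⟨h1, h2⟩ k4
  let v : pullback fi ((specDiag A C).map φ) ⟶ Spec (CommRingCat.of (FPColim.Stage j.unop)) :=
    pullback.snd fi ((specDiag A C).map φ)
  have l1 : Etale v := hj
  have l2 : QuasiCompact v := MorphismProperty.pullback_snd _ _ h2
  have l3 : QuasiSeparated v := MorphismProperty.pullback_snd _ _ h3
  -- the base change of `v` to `C`
  have hw : g ≫ fi = (u' ≫ (specCone A C).π.app j) ≫ (specDiag A C).map φ := by
    rw [Category.assoc, (specCone A C).w, h4.w]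
  have h5 : IsPullback (pullback.lift g (u' ≫ (specCone A C).π.app j) hw) u' v
      ((specCone A C).π.app j) := by
    refine IsPullback.of_right (h₁₂ := pullback.fst fi ((specDiag A C).map φ)) (v₁₃ := fi)
      (h₂₂ := (specDiag A C).map φ) ?_ (pullback.lift_snd _ _ _) (IsPullback.of_hasPullback _ _)
    rw [pullback.lift_fst, (specCone A C).w]
    exact h4
  obtain ⟨B, _, _, hB, ψ, χ, h6⟩ := hC (FPColim.Stage j.unop) (FPColim.toC j.unop)
  have h7 : (specCone A C).π.app j = sp χ ≫ sp ψ := by
    have e1 : sp χ ≫ sp ψ = sp (χ.comp ψ) := by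
      rw [sp, sp, sp, ← Spec.map_comp, ← CommRingCat.ofHom_comp]; rfl
    rw [e1, h6]
    rfl
  refine ⟨B, inferInstance, inferInstance, hB, χ, pullback v (sp ψ), pullback.snd v (sp ψ),
    pullback.lift (pullback.lift g (u' ≫ (specCone A C).π.app j) hw) (u' ≫ sp χ) ?_, ?_, ?_, ?_, ?_⟩
  · rw [Category.assoc, ← h7]
    exact h5.w
  · infer_instance
  · infer_instance
  · infer_instance
  · refine IsPullback.of_right (h₁₂ := pullback.fst v (sp ψ)) (v₁₃ := v)
      (h₂₂ := sp ψ) ?_ (pullback.lift_snd _ _ _) (IsPullback.of_hasPullback _ _)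
    rw [pullback.lift_fst, ← h7]
    exact h5

end K150.EtModel
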