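import Groth.Agent.SGA1.K150.LocRep
import Groth.Agent.SGA1.K150.EtModel
import Groth.Agent.S5132

/-!
# Representability of the sections of an etale descent datum near a point
-/

set_option autoImplicit false
set_option backward.isDefEq.respectTransparency false
set_option backward.isDefEq.respectTransparency.types false

open CategoryTheory CategoryTheory.Limits AlgebraicGeometry Opposite
open _root_.Desc Groth.Agent.Desc.SecFunctor Groth.Agent.Desc.SecPresheaf
  Groth.Agent.Desc.SecDescent Groth.Agent.Desc.ZarGlue SGA1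
open Groth.Agent.Sga1 Groth.Agent.Sga1.SectionSpread Groth.Agent.Sga1.SecRep
open K150.IndOpen

universe u

namespace K150.Stalk

/-- Restriction of isomorphic presheaves. -/
noncomputable def restrMapIso {S S' : Scheme.{u}} (q : S' ⟶ S) {F G : (Over S)ᵒᵖ ⥤ Type u}
    (e : F ≅ G) : restr q F ≅ restr q G :=
  Functor.isoWhiskerLeft _ e

/-- Representability of the sections spreads out, affine base. -/
theorem exists_rep_affine {A C : Type u} [CommRing A] [CommRing C] [Algebra A C]
    (hC : IndOpen A C) {X : Scheme.{u}} {p : X ⟶ Spec (CommRingCat.of A)}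
    [LocallyOfFinitePresentation p] [QuasiCompact p] [QuasiSeparated p]
    (hp : UnivSubmersive p) (D : SchDD p)
    [Etale D.obj.hom] [QuasiCompact D.obj.hom] [QuasiSeparated D.obj.hom]
    (U : Over (Spec (CommRingCat.of C))) [Etale U.hom] [QuasiCompact U.hom] [QuasiSeparated U.hom]
    (r : (restr (str A C) (secFunctor D)).RepresentableBy U) :
    ∃ (B : Type u) (_ : CommRing B) (_ : Algebra A B) (_ : IsOpenImmersion (str A B))
      (_ : B →ₐ[A] C) (V : Over (Spec (CommRingCat.of B))), Etale V.hom ∧
        Nonempty ((restr (str A B) (secFunctor D)).RepresentableBy V) := by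
  obtain ⟨B, i1, i2, hB, χ, N, ν, q, e1, e2, e3, hpb⟩ := EtModel.exists_etale_model hC U.hom
  let _ : Algebra B C := χ.toRingHom.toAlgebra
  have : IsScalarTower A B C := IsScalarTower.of_algebraMap_eq fun x ↦ (χ.commutes x).symm
  have hC' : IndOpen B C := of_tower hC B
  have hstr : str B C ≫ str A B = str A C := sp_str χ
  let D' : SchDD (pullback.snd p (str A B)) := pullDD (str A B) D
  have j1 : Etale D'.obj.hom :=
    inferInstanceAs (Etale (pullback.snd D.obj.hom (pullback.fst p (str A B))))
  have j2 : QuasiCompact D'.obj.hom :=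
    inferInstanceAs (QuasiCompact (pullback.snd D.obj.hom (pullback.fst p (str A B))))
  have j3 : QuasiSeparated D'.obj.hom :=
    inferInstanceAs (QuasiSeparated (pullback.snd D.obj.hom (pullback.fst p (str A B))))
  have hp' : UnivSubmersive (pullback.snd p (str A B)) := MorphismProperty.pullback_snd _ _ hp
  let e : restr (str B C) (secFunctor D') ≅ restr (str A C) (secFunctor D) :=
    restrMapIso (str B C) (restrSecIso (str A B) D).symm ≪≫ restrCompIso hstr (secFunctor D)
  let i : U ≅ Over.mk (pullback.snd ν (str B C)) := Over.isoMk hpb.isoPullback (by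
    exact hpb.isoPullback_hom_snd)
  let r' : (restr (str B C) (secFunctor D')).RepresentableBy
      (Over.mk (pullback.snd ν (str B C))) := (r.ofIso e.symm).ofIsoObj i.symm
  obtain ⟨B', i4, i5, i6, χ', ⟨r''⟩⟩ := LocRep.exists_rep ν D' hp' C hC' r'
  let _ : Algebra A B' := ((algebraMap B B').comp (algebraMap A B)).toAlgebra
  have : IsScalarTower A B B' := IsScalarTower.of_algebraMap_eq fun _ => rfl
  have hstr' : str B B' ≫ str A B = str A B' := by
    rw [str, str, str, ← Spec.map_comp, ← CommRingCat.ofHom_comp, ← IsScalarTower.algebraMap_eq]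
  refine ⟨B', i4, inferInstance, ?_, χ'.restrictScalars A,
    Over.mk (pullback.snd ν (str B B')), ?_, ?_⟩
  · rw [← hstr']
    infer_instance
  · exact inferInstanceAs (Etale (pullback.snd ν (str B B')))
  · exact ⟨r''.ofIso (restrMapIso (str B B') (restrSecIso (str A B) D).symm ≪≫
      restrCompIso hstr' (secFunctor D))⟩

variable {X S : Scheme.{u}} {g : X ⟶ S}

/-- Representability of the sections spreads out from the local ring to an open neighbourhood. -/
theorem exists_nhd_rep (hg : UnivSubmersive g)
    [LocallyOfFinitePresentation g] [QuasiCompact g] [QuasiSeparated g] (D : SchDD g)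
    [Etale D.obj.hom] [QuasiCompact D.obj.hom] [QuasiSeparated D.obj.hom] (a : S)
    (U : Over (Spec (S.presheaf.stalk a))) [Etale U.hom] [QuasiCompact U.hom]
    [QuasiSeparated U.hom]
    (r : (restr (S.fromSpecStalk a) (secFunctor D)).RepresentableBy U) :
    ∃ W : S.Opens, a ∈ W ∧ ∃ V : Over (W : Scheme.{u}), Etale V.hom ∧
      Nonempty ((restr W.ι (secFunctor D)).RepresentableBy V) := by
  obtain ⟨_, ⟨V, hV, rfl⟩, haV, -⟩ :=
    S.isBasis_affineOpens.exists_subset_of_mem_open (Set.mem_univ a) isOpen_univ
  have hV : IsAffineOpen V := hV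
  have haV : a ∈ V := haV
  let A : Type u := Γ(S, V)
  let C : Type u := S.presheaf.stalk a
  let _ : Algebra A C := (S.presheaf.germ V a haV).hom.toAlgebra
  have hloc : IsLocalization.AtPrime C (hV.primeIdealOf ⟨a, haV⟩).asIdeal :=
    hV.isLocalization_stalk ⟨a, haV⟩
  have hC : IndOpen A C := indOpen_of_isLocalization C (hV.primeIdealOf ⟨a, haV⟩).asIdeal.primeCompl
  let q₀ : Spec (CommRingCat.of A) ⟶ S := hV.fromSpec
  have hq₀ : IsOpenImmersion q₀ := inferInstanceAs (IsOpenImmersion hV.fromSpec)
  have hstr : str A C ≫ q₀ = S.fromSpecStalk a := hV.fromSpecStalk_eq_fromSpecStalk haV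
  let D' : SchDD (pullback.snd g q₀) := pullDD q₀ D
  have j1 : Etale D'.obj.hom :=
    inferInstanceAs (Etale (pullback.snd D.obj.hom (pullback.fst g q₀)))
  have j2 : QuasiCompact D'.obj.hom :=
    inferInstanceAs (QuasiCompact (pullback.snd D.obj.hom (pullback.fst g q₀)))
  have j3 : QuasiSeparated D'.obj.hom :=
    inferInstanceAs (QuasiSeparated (pullback.snd D.obj.hom (pullback.fst g q₀)))
  have hp' : UnivSubmersive (pullback.snd g q₀) := MorphismProperty.pullback_snd _ _ hg
  let e : restr (str A C) (secFunctor D') ≅ restr (S.fromSpecStalk a) (secFunctor D) :=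
    restrMapIso (str A C) (restrSecIso q₀ D).symm ≪≫ restrCompIso hstr (secFunctor D)
  obtain ⟨B, i1, i2, i3, χ, Y, hY, ⟨rY⟩⟩ := exists_rep_affine hC hp' D' U (r.ofIso e.symm)
  let q : Spec (CommRingCat.of B) ⟶ S := str A B ≫ q₀
  have hq : IsOpenImmersion q := inferInstance
  have haq : a ∈ q.opensRange := by
    refine ⟨sp χ (IsLocalRing.closedPoint C), ?_⟩
    have h1 : sp χ ≫ q = S.fromSpecStalk a := by
      rw [← hstr, ← Category.assoc, sp_str]
    have h2 := Scheme.fromSpecStalk_closedPoint (X := S) (x := a)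
    rw [← h1, Scheme.Hom.comp_apply] at h2
    exact h2
  let j : (q.opensRange : Scheme.{u}) ≅ Spec (CommRingCat.of B) :=
    IsOpenImmersion.isoOfRangeEq q.opensRange.ι q (by simp)
  have hj : j.hom ≫ q = q.opensRange.ι := IsOpenImmersion.isoOfRangeEq_hom_fac _ _ _
  let rq : (restr q (secFunctor D)).RepresentableBy Y := rY.ofIso
    (restrMapIso (str A B) (restrSecIso q₀ D).symm ≪≫ restrCompIso rfl (secFunctor D))
  refine ⟨q.opensRange, haq, (Over.pullback j.hom).obj Y, ?_, ?_⟩
  · exact MorphismProperty.pullback_snd (P := @Etale) _ _ hY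
  · exact ⟨(pullRep j.hom rq).ofIso (restrCompIso hj (secFunctor D))⟩

end K150.Stalk
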