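import Groth.Agent.SGA1.K150.Eff
import Groth.Agent.SGA1.K150.Stalk
import Groth.Agent.SGA1.K150.RepProps

/-!
# Effectivity of etale descent data and local rings of the base
-/

set_option autoImplicit false
set_option maxHeartbeats 400000
set_option backward.isDefEq.respectTransparency false
set_option backward.isDefEq.respectTransparency.types false
open CategoryTheory CategoryTheory.Limits AlgebraicGeometry Opposite
universe u
open _root_.Desc Groth.Agent.Desc.SecFunctor Groth.Agent.Desc.SecPresheaf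
  Groth.Agent.Desc.SecDescent

namespace K150.StalkEff

variable {X S : Scheme.{u}} {g : X ⟶ S}

theorem nhd_iff_stalk (hg : SGA1.UnivSubmersive g)
    [LocallyOfFinitePresentation g] [QuasiCompact g] [QuasiSeparated g]
    (D : SchDDFam (fun _ : PUnit.{1} => g)) [Etale (D.obj PUnit.unit).hom]
    [QuasiCompact (D.obj PUnit.unit).hom] [QuasiSeparated (D.obj PUnit.unit).hom] (a : S) :
    (∃ W : S.Opens, a ∈ W ∧ (∃ U : Over (W : Scheme.{u}), Etale U.hom ∧
        Nonempty ((toDDFam (fun _ : PUnit.{1} => pullback.snd g W.ι)).obj U ≅ Fam.pull W.ι D))) ↔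
      (∃ U : Over (Spec (S.presheaf.stalk a)), Etale U.hom ∧
        Nonempty ((toDDFam (fun _ : PUnit.{1} => pullback.snd g (S.fromSpecStalk a))).obj U ≅
          Fam.pull (S.fromSpecStalk a) D)) := by
  have hD1 : Etale (Fam.toOne D).obj.hom := ‹Etale (D.obj PUnit.unit).hom›
  have hD2 : QuasiCompact (Fam.toOne D).obj.hom := ‹QuasiCompact (D.obj PUnit.unit).hom›
  have hD3 : QuasiSeparated (Fam.toOne D).obj.hom := ‹QuasiSeparated (D.obj PUnit.unit).hom›
  constructor
  · rintro ⟨W, haW, U, hU, h⟩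
    obtain ⟨r⟩ := (Fam.eff_pull_iff hg W.ι D U).1 h
    -- the map `Spec O_{S,a} ⟶ W`
    have hr : Set.range (S.fromSpecStalk a) ⊆ Set.range W.ι := by
      rw [Scheme.Opens.range_ι, Scheme.range_fromSpecStalk]
      intro y hy
      exact (show y ⤳ a from hy).mem_open W.2 haW
    let l : Spec (S.presheaf.stalk a) ⟶ W := IsOpenImmersion.lift W.ι (S.fromSpecStalk a) hr
    have hl : l ≫ W.ι = S.fromSpecStalk a := IsOpenImmersion.lift_fac _ _ _
    have h1 : Etale ((Over.pullback l).obj U).hom :=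
      MorphismProperty.pullback_snd (P := @Etale) _ _ hU
    exact ⟨(Over.pullback l).obj U, h1, (Fam.eff_pull_iff hg (S.fromSpecStalk a) D _).2
      ⟨(pullRep l r).ofIso (restrCompIso hl (secFunctor (Fam.toOne D)))⟩⟩
  · rintro ⟨U, hU, h⟩
    obtain ⟨r⟩ := (Fam.eff_pull_iff hg (S.fromSpecStalk a) D U).1 h
    have := RepProps.quasiCompact_of_rep hg (Fam.toOne D) (S.fromSpecStalk a) U r
    have := RepProps.quasiSeparated_of_rep hg (Fam.toOne D) (S.fromSpecStalk a) U r
    obtain ⟨W, haW, V, hV, r'⟩ := Stalk.exists_nhd_rep hg (Fam.toOne D) a U r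
    exact ⟨W, haW, V, hV, (Fam.eff_pull_iff hg W.ι D V).2 r'⟩

theorem iff_forall_stalk (hg : SGA1.UnivSubmersive g)
    [LocallyOfFinitePresentation g] [QuasiCompact g] [QuasiSeparated g]
    (D : SchDDFam (fun _ : PUnit.{1} => g)) [Etale (D.obj PUnit.unit).hom]
    [QuasiCompact (D.obj PUnit.unit).hom] [QuasiSeparated (D.obj PUnit.unit).hom] :
    (∃ U : Over S, Etale U.hom ∧ Nonempty ((toDDFam (fun _ : PUnit.{1} => g)).obj U ≅ D)) ↔
      ∀ a : S, (∃ U : Over (Spec (S.presheaf.stalk a)), Etale U.hom ∧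
        Nonempty ((toDDFam (fun _ : PUnit.{1} => pullback.snd g (S.fromSpecStalk a))).obj U ≅
          Fam.pull (S.fromSpecStalk a) D)) := by
  constructor
  · rintro ⟨U, hU, h⟩ a
    exact ⟨_, Eff.exists_pull hg (S.fromSpecStalk a) D U h⟩
  · intro H
    have H' := fun a => (nhd_iff_stalk hg D a).2 (H a)
    choose W haW hW using H'
    refine (Eff.iff_openCover hg D W ?_).2 hW
    rw [eq_top_iff]
    intro a _
    exact (TopologicalSpace.Opens.mem_iSup).2 ⟨a, haW a⟩

end K150.StalkEff
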