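import Groth.Agent.SGA1.K150.StalkEff
import Groth.Agent.SGA1.K150.CplAlgClosed

/-!
# Effectivity of etale descent data and completions of the local rings of the base
-/

set_option autoImplicit false
set_option maxHeartbeats 400000
set_option backward.isDefEq.respectTransparency false
set_option backward.isDefEq.respectTransparency.types false
open CategoryTheory CategoryTheory.Limits AlgebraicGeometry Opposite
universe u
open _root_.Desc Groth.Agent.Desc.SecFunctor Groth.Agent.Desc.SecPresheaf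
  Groth.Agent.Desc.SecDescent

namespace K150.CplEff

variable {X S : Scheme.{u}} {g : X ⟶ S}

/-- Representability over the local ring from representability over a faithfully flat algebra. -/
theorem exists_stalk_of_flat (hg : SGA1.UnivSubmersive g) [QuasiCompact g]
    (D : SchDD g) [Etale D.obj.hom] [QuasiCompact D.obj.hom] [IsSeparated D.obj.hom]
    {S₀ T : Scheme.{u}} (q : S₀ ⟶ S) (p : T ⟶ S₀) [Flat p] [Surjective p] [QuasiCompact p]
    (U : Over T) [Etale U.hom] (r : (restr (p ≫ q) (secFunctor D)).RepresentableBy U) :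
    ∃ U₀ : Over S₀, Etale U₀.hom ∧ Nonempty ((restr q (secFunctor D)).RepresentableBy U₀) := by
  have h1 := RepProps.quasiCompact_of_rep hg D (p ≫ q) U r
  have h2 := RepProps.isSeparated_of_rep hg D (p ≫ q) U r
  let D' : SchDD (pullback.snd g q) := pullDD q D
  have j1 : Etale D'.obj.hom :=
    inferInstanceAs (Etale (pullback.snd D.obj.hom (pullback.fst g q)))
  let e : restr p (secFunctor D') ≅ restr (p ≫ q) (secFunctor D) :=
    Stalk.restrMapIso p (restrSecIso q D).symm ≪≫ restrCompIso rfl (secFunctor D)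
  obtain ⟨U₀, h3, h4, h5, ⟨r₀⟩⟩ := Eff.exists_rep_of_fpqc D' p U (r.ofIso e.symm)
  exact ⟨U₀, h3, ⟨r₀.ofIso (restrSecIso q D).symm⟩⟩

theorem exists_eff_stalk_of_flat (hg : SGA1.UnivSubmersive g) [QuasiCompact g]
    (D : SchDDFam (fun _ : PUnit.{1} => g)) [Etale (D.obj PUnit.unit).hom]
    [QuasiCompact (D.obj PUnit.unit).hom] [IsSeparated (D.obj PUnit.unit).hom]
    {S₀ T : Scheme.{u}} (q : S₀ ⟶ S) (p : T ⟶ S₀) [Flat p] [Surjective p] [QuasiCompact p]
    (H : ∃ U : Over T, Etale U.hom ∧
      Nonempty ((toDDFam (fun _ : PUnit.{1} => pullback.snd g (p ≫ q))).obj U ≅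
        Fam.pull (p ≫ q) D)) :
    ∃ U : Over S₀, Etale U.hom ∧
      Nonempty ((toDDFam (fun _ : PUnit.{1} => pullback.snd g q)).obj U ≅ Fam.pull q D) := by
  have hD1 : Etale (Fam.toOne D).obj.hom := ‹Etale (D.obj PUnit.unit).hom›
  have hD2 : QuasiCompact (Fam.toOne D).obj.hom := ‹QuasiCompact (D.obj PUnit.unit).hom›
  have hD3 : IsSeparated (Fam.toOne D).obj.hom := ‹IsSeparated (D.obj PUnit.unit).hom›
  obtain ⟨U, hU, h⟩ := H
  obtain ⟨r⟩ := (Fam.eff_pull_iff hg (p ≫ q) D U).1 h
  obtain ⟨U₀, hU₀, r₀⟩ := exists_stalk_of_flat hg (Fam.toOne D) q p U r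
  exact ⟨U₀, hU₀, (Fam.eff_pull_iff hg q D U₀).2 r₀⟩

theorem flat_surjective_of_faithfullyFlat (A B : Type u) [CommRing A] [CommRing B] [Algebra A B]
    [Module.FaithfullyFlat A B] : Flat (Spec.map (CommRingCat.ofHom (algebraMap A B))) ∧
      Surjective (Spec.map (CommRingCat.ofHom (algebraMap A B))) := by
  have h : (algebraMap A B).FaithfullyFlat := by
    rw [RingHom.faithfullyFlat_algebraMap_iff]
    infer_instance
  exact (flat_and_surjective_SpecMap_iff _).2 h

theorem iff_forall_completion [IsLocallyNoetherian S] (hg : SGA1.UnivSubmersive g)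
    [LocallyOfFinitePresentation g] [QuasiCompact g] [QuasiSeparated g]
    (D : SchDDFam (fun _ : PUnit.{1} => g)) [Etale (D.obj PUnit.unit).hom]
    [QuasiCompact (D.obj PUnit.unit).hom] [IsSeparated (D.obj PUnit.unit).hom] :
    (∃ U : Over S, Etale U.hom ∧ Nonempty ((toDDFam (fun _ : PUnit.{1} => g)).obj U ≅ D)) ↔
      ∀ a : S, (∃ U : Over (Spec (CommRingCat.of (AdicCompletion
          (IsLocalRing.maximalIdeal (S.presheaf.stalk a)) (S.presheaf.stalk a)))),
        Etale U.hom ∧ Nonempty ((toDDFam (fun _ : PUnit.{1} => pullback.snd g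
          (Spec.map (CommRingCat.ofHom (algebraMap (S.presheaf.stalk a)
          (AdicCompletion (IsLocalRing.maximalIdeal (S.presheaf.stalk a))
            (S.presheaf.stalk a)))) ≫ S.fromSpecStalk a))).obj U ≅
          Fam.pull (Spec.map (CommRingCat.ofHom (algebraMap (S.presheaf.stalk a)
          (AdicCompletion (IsLocalRing.maximalIdeal (S.presheaf.stalk a))
            (S.presheaf.stalk a)))) ≫ S.fromSpecStalk a) D)) := by
  constructor
  · rintro ⟨U, hU, h⟩ a
    exact ⟨_, Eff.exists_pull hg _ D U h⟩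
  · intro H
    refine (StalkEff.iff_forall_stalk hg D).2 fun a => ?_
    have := CplAlgClosed.faithfullyFlat_completion (S.presheaf.stalk a)
    obtain ⟨h1, h2⟩ := flat_surjective_of_faithfullyFlat (S.presheaf.stalk a)
      (AdicCompletion (IsLocalRing.maximalIdeal (S.presheaf.stalk a)) (S.presheaf.stalk a))
    exact exists_eff_stalk_of_flat hg D (S.fromSpecStalk a) (Spec.map (CommRingCat.ofHom
      (algebraMap (S.presheaf.stalk a) (AdicCompletion
        (IsLocalRing.maximalIdeal (S.presheaf.stalk a)) (S.presheaf.stalk a))))) (H a)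

theorem iff_forall_complete_algClosed [IsLocallyNoetherian S] (hg : SGA1.UnivSubmersive g)
    [LocallyOfFinitePresentation g] [QuasiCompact g] [QuasiSeparated g]
    (D : SchDDFam (fun _ : PUnit.{1} => g)) [Etale (D.obj PUnit.unit).hom]
    [QuasiCompact (D.obj PUnit.unit).hom] [IsSeparated (D.obj PUnit.unit).hom] :
    (∃ U : Over S, Etale U.hom ∧ Nonempty ((toDDFam (fun _ : PUnit.{1} => g)).obj U ≅ D)) ↔
      ∀ (B : Type u) [CommRing B] [IsNoetherianRing B] [IsLocalRing B]
      [IsAdicComplete (IsLocalRing.maximalIdeal B) B] [IsAlgClosed (IsLocalRing.ResidueField B)]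
      (q : Spec (CommRingCat.of B) ⟶ S), (∃ U : Over (Spec (CommRingCat.of B)), Etale U.hom ∧
        Nonempty ((toDDFam (fun _ : PUnit.{1} => pullback.snd g q)).obj U ≅ Fam.pull q D)) := by
  constructor
  · rintro ⟨U, hU, h⟩ B _ _ _ _ _ q
    exact ⟨_, Eff.exists_pull hg _ D U h⟩
  · intro H
    refine (StalkEff.iff_forall_stalk hg D).2 fun a => ?_
    obtain ⟨B, i1, i2, i3, i4, i5, i6, i7⟩ :=
      CplAlgClosed.exists_complete_algClosed (S.presheaf.stalk a)
    obtain ⟨h1, h2⟩ := flat_surjective_of_faithfullyFlat (S.presheaf.stalk a) B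
    exact exists_eff_stalk_of_flat hg D (S.fromSpecStalk a) (Spec.map (CommRingCat.ofHom
      (algebraMap (S.presheaf.stalk a) B))) (H B _)

end K150.CplEff
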