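import Groth.Prelude.Def_DescFam
import Groth.Agent.Desc.SecDescent
import Groth.Agent.Sga1.SecLocal

/-!
# Effectivity of etale descent data relative to a one-member family, and base change

* `nonempty_iso_iff`: `Desc.SchDDFam` relative to `fun _ : PUnit => g` versus `Desc.SchDD g`.
* `restrIso`: sections of the base change `Desc.pullDDFam` of a descent datum along `q : S' ⟶ S`
  are the restriction of the sections.
* `eff_iff`, `eff_pull_iff`: effectivity with an etale result is representability of (the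
  restriction of) the presheaf of sections.
-/

set_option autoImplicit false
set_option maxHeartbeats 400000
set_option backward.isDefEq.respectTransparency false
set_option backward.isDefEq.respectTransparency.types false
open CategoryTheory CategoryTheory.Limits AlgebraicGeometry Opposite
universe u
open _root_.Desc Groth.Agent.Desc.SecFunctor Groth.Agent.Desc.SecPresheaf

namespace K150.Fam

variable {X S S' : Scheme.{u}} {g : X ⟶ S}

/-- A descent datum relative to a one-member family, as a descent datum relative to its member. -/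
noncomputable abbrev toOne (D : SchDDFam (fun _ : PUnit.{1} => g)) : SchDD g :=
  (SchDDFam.toSchDD g).obj D

/-- The base change of a descent datum along `q : S' ⟶ S`. -/
noncomputable abbrev pull (q : S' ⟶ S) (D : SchDDFam (fun _ : PUnit.{1} => g)) :
    SchDDFam (fun _ : PUnit.{1} => pullback.snd g q) :=
  (pullDDFam (f := fun _ : PUnit.{1} => g) (f' := fun _ : PUnit.{1} => pullback.snd g q)
        (α := id) (p := q) (p' := fun _ => pullback.fst g q) (fun _ => pullback.condition)).obj D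

theorem nonempty_iso_iff (D : SchDDFam (fun _ : PUnit.{1} => g)) (U : Over S) :
    Nonempty ((toDDFam (fun _ : PUnit.{1} => g)).obj U ≅ D) ↔
      Nonempty ((toDD g).obj U ≅ toOne D) := by
  constructor
  · rintro ⟨e⟩
    exact ⟨(SchDDFam.toSchDD g).mapIso e⟩
  · rintro ⟨e⟩
    exact ⟨(SchDDFam.oneEquiv g).fullyFaithfulFunctor.preimageIso e⟩

/-- The projection `D.obj ×_X X' ⟶ D.obj`. -/
noncomputable def π₁ (q : S' ⟶ S) (D : SchDDFam (fun _ : PUnit.{1} => g)) :
    (toOne (pull q D)).obj.left ⟶ (toOne D).obj.left :=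
  pullback.fst (toOne D).obj.hom (pullback.fst g q)

theorem isPullback_π₁ (q : S' ⟶ S) (D : SchDDFam (fun _ : PUnit.{1} => g)) :
    IsPullback (π₁ q D) (toOne (pull q D)).obj.hom (toOne D).obj.hom (pullback.fst g q) :=
  IsPullback.of_hasPullback _ _

/-- Descend a lift. -/
noncomputable def down {q : S' ⟶ S} {D : SchDDFam (fun _ : PUnit.{1} => g)} {T : Scheme.{u}}
    {x : T ⟶ pullback g q} (v : Lifts (toOne (pull q D)).obj x) :
    Lifts (toOne D).obj (x ≫ pullback.fst g q) :=
  ⟨v.1 ≫ π₁ q D, by rw [Category.assoc, (isPullback_π₁ q D).w, ← Category.assoc, v.2]⟩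

/-- Lift a lift. -/
noncomputable def up {q : S' ⟶ S} {D : SchDDFam (fun _ : PUnit.{1} => g)} {T : Scheme.{u}}
    {x : T ⟶ pullback g q} (v : Lifts (toOne D).obj (x ≫ pullback.fst g q)) :
    Lifts (toOne (pull q D)).obj x :=
  ⟨(isPullback_π₁ q D).lift v.1 x v.2, (isPullback_π₁ q D).lift_snd _ _ _⟩

@[local simp] theorem up_val_π₁ {q : S' ⟶ S} {D : SchDDFam (fun _ : PUnit.{1} => g)} {T : Scheme.{u}}
    {x : T ⟶ pullback g q} (v : Lifts (toOne D).obj (x ≫ pullback.fst g q)) :
    (up (q := q) v).1 ≫ π₁ q D = v.1 := (isPullback_π₁ q D).lift_fst _ _ _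

theorem down_up {q : S' ⟶ S} {D : SchDDFam (fun _ : PUnit.{1} => g)} {T : Scheme.{u}}
    {x : T ⟶ pullback g q} (v : Lifts (toOne D).obj (x ≫ pullback.fst g q)) :
    down (up v) = v := Subtype.ext (up_val_π₁ v)

theorem lifts_ext {q : S' ⟶ S} {D : SchDDFam (fun _ : PUnit.{1} => g)} {T : Scheme.{u}}
    {x : T ⟶ pullback g q} {v w : Lifts (toOne (pull q D)).obj x}
    (h : v.1 ≫ π₁ q D = w.1 ≫ π₁ q D) : v = w :=
  Subtype.ext ((isPullback_π₁ q D).hom_ext h (v.2.trans w.2.symm))

theorem pull_φ (q : S' ⟶ S) (D : SchDDFam (fun _ : PUnit.{1} => g)) {T : Scheme.{u}}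
    (x₀ x₁ : T ⟶ pullback g q) (h : x₀ ≫ pullback.snd g q = x₁ ≫ pullback.snd g q)
    (h' : (x₀ ≫ pullback.fst g q) ≫ g = (x₁ ≫ pullback.fst g q) ≫ g)
    (v : Lifts (toOne (pull q D)).obj x₀) :
    (toOne (pull q D)).φ x₀ x₁ h v =
      up ((toOne D).φ (x₀ ≫ pullback.fst g q) (x₁ ≫ pullback.fst g q) h' (down v)) := by
  apply lifts_ext
  rw [up_val_π₁]
  exact pullback.lift_fst _ _ _

theorem cond {q : S' ⟶ S} {T : Over S'} {Z : Scheme.{u}} {z : Z ⟶ T.left}
    {x : Z ⟶ pullback g q} (h : x ≫ pullback.snd g q = z ≫ T.hom) :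
    (x ≫ pullback.fst g q) ≫ g = z ≫ ((Over.map q).obj T).hom := by
  rw [Category.assoc, pullback.condition, reassoc_of% h]
  rfl

/-- Sections of `D` over `T` give sections of the base change of `D`. -/
noncomputable def toPull (q : S' ⟶ S) (D : SchDDFam (fun _ : PUnit.{1} => g)) (T : Over S')
    (s : (secFunctor (toOne D)).obj (op ((Over.map q).obj T))) :
    (secFunctor (toOne (pull q D))).obj (op T) :=
  mk (D := toOne (pull q D)) (T := T)
    (fun _ z x h => up (ev (T := (Over.map q).obj T) s z (x ≫ pullback.fst g q) (cond h)))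
    (fun Z Z' k z x h h' => by
      have e := ev_comp (T := (Over.map q).obj T) s k z (x ≫ pullback.fst g q) (cond h)
        (z' := k ≫ z) (x' := (k ≫ x) ≫ pullback.fst g q) rfl (Category.assoc _ _ _) (cond h')
      apply (isPullback_π₁ q D).hom_ext
      · rw [up_val_π₁, e, Category.assoc, up_val_π₁]
      · refine (up _).2.trans ?_
        rw [Category.assoc]
        exact congrArg (k ≫ ·) (up _).2.symm)
    (fun Z z x₀ x₁ h₀ h₁ => by
      rw [pull_φ q D x₀ x₁ (h₀.trans h₁.symm) ((cond h₀).trans (cond h₁).symm), down_up]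
      congr 1
      exact φ_ev (T := (Over.map q).obj T) s z _ _ (cond h₀) (cond h₁))

theorem ev_toPull (q : S' ⟶ S) (D : SchDDFam (fun _ : PUnit.{1} => g)) (T : Over S')
    (s : (secFunctor (toOne D)).obj (op ((Over.map q).obj T))) {Z : Scheme.{u}} (z : Z ⟶ T.left)
    (x : Z ⟶ pullback g q) (h : x ≫ pullback.snd g q = z ≫ T.hom) :
    ev (toPull q D T s) z x h =
      up (ev (T := (Over.map q).obj T) s z (x ≫ pullback.fst g q) (cond h)) :=
  ev_mk _ _ _ _ _ _

theorem toPull_injective (q : S' ⟶ S) (D : SchDDFam (fun _ : PUnit.{1} => g)) (T : Over S') :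
    Function.Injective (toPull q D T) := by
  intro s t hst
  apply ev_ext (T := (Over.map q).obj T)
  intro Z z x h
  have h0 : x ≫ g = (z ≫ T.hom) ≫ q := by rw [Category.assoc]; exact h
  obtain ⟨y, h1, h2⟩ : ∃ y : Z ⟶ pullback g q, y ≫ pullback.snd g q = z ≫ T.hom ∧
    y ≫ pullback.fst g q = x :=
      ⟨pullback.lift x (z ≫ T.hom) h0, pullback.lift_snd _ _ _, pullback.lift_fst _ _ _⟩
  have h3 : (ev (toPull q D T s) z y h1).1 ≫ π₁ q D = (ev (toPull q D T t) z y h1).1 ≫ π₁ q D := by
    rw [hst]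
  rw [ev_toPull, ev_toPull, up_val_π₁, up_val_π₁] at h3
  exact (ev_congr (T := (Over.map q).obj T) s rfl h2.symm _ _).trans
    (h3.trans (ev_congr (T := (Over.map q).obj T) t rfl h2 _ _))

theorem toPull_surjective (q : S' ⟶ S) (D : SchDDFam (fun _ : PUnit.{1} => g)) (T : Over S') :
    Function.Surjective (toPull q D T) := by
  intro s
  let l : ∀ ⦃Z : Scheme.{u}⦄ (z : Z ⟶ T.left) (x : Z ⟶ X)
      (_ : x ≫ g = z ≫ ((Over.map q).obj T).hom), Z ⟶ pullback g q := fun Z z x h =>
    pullback.lift x (z ≫ T.hom) (by rw [Category.assoc]; exact h)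
  have hl1 : ∀ ⦃Z : Scheme.{u}⦄ (z : Z ⟶ T.left) (x : Z ⟶ X)
      (h : x ≫ g = z ≫ ((Over.map q).obj T).hom), l z x h ≫ pullback.fst g q = x :=
    fun Z z x h => pullback.lift_fst _ _ _
  have hl2 : ∀ ⦃Z : Scheme.{u}⦄ (z : Z ⟶ T.left) (x : Z ⟶ X)
      (h : x ≫ g = z ≫ ((Over.map q).obj T).hom), l z x h ≫ pullback.snd g q = z ≫ T.hom :=
    fun Z z x h => pullback.lift_snd _ _ _
  let v : ∀ ⦃Z : Scheme.{u}⦄ (z : Z ⟶ T.left) (x : Z ⟶ X)
      (_ : x ≫ g = z ≫ ((Over.map q).obj T).hom), Lifts (toOne D).obj x := fun Z z x h =>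
    ⟨(down (ev s z (l z x h) (hl2 z x h))).1,
      (down (ev s z (l z x h) (hl2 z x h))).2.trans (hl1 z x h)⟩
  refine ⟨mk (D := toOne D) (T := (Over.map q).obj T) v ?_ ?_, ?_⟩
  · intro Z Z' k z x h h'
    have e := ev_comp s k z (l z x h) (hl2 z x h) (z' := k ≫ z) (x' := l (k ≫ z) (k ≫ x) h') rfl (by
      apply pullback.hom_ext
      · refine (hl1 (k ≫ z) (k ≫ x) h').trans ?_
        rw [Category.assoc]
        exact congrArg (k ≫ ·) (hl1 _ _ h).symm
      · refine (hl2 (k ≫ z) (k ≫ x) h').trans ?_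
        rw [Category.assoc, Category.assoc]
        exact congrArg (k ≫ ·) (hl2 _ _ h).symm)
      (hl2 (k ≫ z) (k ≫ x) h')
    change (ev s (k ≫ z) (l (k ≫ z) (k ≫ x) h') _).1 ≫ _ = k ≫ (ev s z (l z x h) _).1 ≫ _
    rw [e, Category.assoc]
  · intro Z z x₀ x₁ h₀ h₁
    apply Subtype.ext
    have hc : (l z x₀ h₀ ≫ pullback.fst g q) ≫ g = (l z x₁ h₁ ≫ pullback.fst g q) ≫ g :=
      (congrArg (· ≫ g) (hl1 z x₀ h₀)).trans ((h₀.trans h₁.symm).trans
        (congrArg (· ≫ g) (hl1 z x₁ h₁)).symm)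
    have e := φ_ev s z (l z x₀ h₀) (l z x₁ h₁) (hl2 z x₀ h₀) (hl2 z x₁ h₁)
    have e' := pull_φ q D (l z x₀ h₀) (l z x₁ h₁) ((hl2 z x₀ h₀).trans (hl2 z x₁ h₁).symm) hc
      (ev s z (l z x₀ h₀) (hl2 z x₀ h₀))
    have e2 := (up_val_π₁ _).symm.trans (congrArg (fun a => a.1 ≫ π₁ q D) (e'.symm.trans e))
    exact (φ_congr (toOne D) hc _ (hl1 z x₀ h₀).symm (hl1 z x₁ h₁).symm _ _ rfl).trans e2
  · apply ev_ext
    intro Z z x h
    apply congrArg Subtype.val
    rw [ev_toPull, ev_mk]
    apply lifts_ext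
    rw [up_val_π₁]
    have hx : l z (x ≫ pullback.fst g q) (cond h) = x := by
      apply pullback.hom_ext
      · exact hl1 z (x ≫ pullback.fst g q) (cond h)
      · exact (hl2 z (x ≫ pullback.fst g q) (cond h)).trans h.symm
    exact congrArg (· ≫ π₁ q D) (ev_congr s rfl hx _ h)

theorem toPull_map (q : S' ⟶ S) (D : SchDDFam (fun _ : PUnit.{1} => g)) {T T' : Over S'}
    (k : T' ⟶ T) (s : (secFunctor (toOne D)).obj (op ((Over.map q).obj T))) :
    toPull q D T' ((secFunctor (toOne D)).map ((Over.map q).map k).op s) =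
      (secFunctor (toOne (pull q D))).map k.op (toPull q D T s) := by
  apply ev_ext
  intro Z z x h
  apply congrArg Subtype.val
  have hk : x ≫ pullback.snd g q = (z ≫ k.left) ≫ T.hom := by rw [h, Category.assoc, Over.w k]
  rw [ev_map k (toPull q D T s) z x h hk, ev_toPull, ev_toPull]
  apply congrArg up
  exact ev_map (T := (Over.map q).obj T) (T' := (Over.map q).obj T') ((Over.map q).map k) s z
    (x ≫ pullback.fst g q) (cond h) (cond hk)

/-- The sections of the base change of `D` are the restriction of the sections of `D`. -/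
noncomputable def restrIso (q : S' ⟶ S) (D : SchDDFam (fun _ : PUnit.{1} => g)) :
    restr q (secFunctor (toOne D)) ≅ secFunctor (toOne (pull q D)) :=
  NatIso.ofComponents (fun T => (Equiv.ofBijective (toPull q D T.unop)
    ⟨toPull_injective q D T.unop, toPull_surjective q D T.unop⟩).toIso) (by
    intro T T' k
    ext a
    exact toPull_map q D k.unop a)

/-- Effectivity with an etale result is representability of the presheaf of sections. -/
theorem eff_iff (hg : SGA1.UnivSubmersive g) (D : SchDDFam (fun _ : PUnit.{1} => g)) (U : Over S)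
    [Etale U.hom] : Nonempty ((toDDFam (fun _ : PUnit.{1} => g)).obj U ≅ D) ↔
      Nonempty ((secFunctor (toOne D)).RepresentableBy U) := by
  rw [nonempty_iso_iff]
  constructor
  · rintro ⟨e⟩
    exact ⟨Groth.Agent.Sga1.SecLocal.representableByOfIso
      (Groth.Agent.Sga1.SecLocal.map_bijective g hg · U) e⟩
  · rintro ⟨e⟩
    exact effective_of_representableBy e

/-- Effectivity of the base change with an etale result is representability of the restriction
of the presheaf of sections. -/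
theorem eff_pull_iff (hg : SGA1.UnivSubmersive g) (q : S' ⟶ S)
    (D : SchDDFam (fun _ : PUnit.{1} => g)) (U : Over S') [Etale U.hom] :
    Nonempty ((toDDFam (fun _ : PUnit.{1} => pullback.snd g q)).obj U ≅ pull q D) ↔
      Nonempty ((restr q (secFunctor (toOne D))).RepresentableBy U) := by
  rw [eff_iff (MorphismProperty.pullback_snd _ _ hg)]
  constructor
  · rintro ⟨e⟩
    exact ⟨e.ofIso (restrIso q D).symm⟩
  · rintro ⟨e⟩
    exact ⟨e.ofIso (restrIso q D)⟩

end K150.Fam
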