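import Groth.Agent.SGA1.K150.IndOpen
import Groth.Agent.Sga1.LocTriv

/-!
# Spreading out representability of the sections of an etale descent datum

`exists_rep`: `X → Spec A` universally submersive of finite presentation, `D` an etale finitely
presented descent datum, `C` a localization of `A` (more generally `IndOpen A C`) and `N → Spec A`
etale of finite presentation such that `N_C` represents the sections of `D` over `Spec C`. Then `N`
represents the sections over an affine open subscheme through which `Spec C` factors.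
-/

set_option autoImplicit false
set_option backward.isDefEq.respectTransparency false
set_option backward.isDefEq.respectTransparency.types false

open CategoryTheory CategoryTheory.Limits AlgebraicGeometry Opposite
open _root_.Desc Groth.Agent.Desc.SecFunctor Groth.Agent.Desc.SecPresheaf
  Groth.Agent.Desc.SecDescent Groth.Agent.Desc.ZarGlue SGA1
open Groth.Agent.Sga1 Groth.Agent.Sga1.SectionSpread Groth.Agent.Sga1.SecRep
  Groth.Agent.Sga1.SecCompat Groth.Agent.Sga1.LocTriv Groth.Agent.Ega43.LimitDescendIso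
open K150.IndOpen

universe u

namespace K150.LocRep

variable {A : Type u} [CommRing A] {X N : Scheme.{u}} {p : X ⟶ Spec (CommRingCat.of A)}
  (ν : N ⟶ Spec (CommRingCat.of A)) (D : SchDD p)

/-- Compatibility over `C` spreads out. -/
theorem exists_open_isCompat [QuasiCompact p] [QuasiCompact ν]
    [QuasiSeparated p] [QuasiSeparated ν] [LocallyOfFiniteType D.obj.hom]
    {B : Type u} [CommRing B] [Algebra A B] {C : Type u} [CommRing C] [Algebra A C]
    (hC : IndOpen A C)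
    [Algebra.FinitePresentation A B] (χ : B →ₐ[A] C)
    (σ : bc (fN p ν) B ⟶ D.obj.left) (hσ : σ ≫ D.obj.hom = xT p ν (str A B))
    (hk : IsCompat D (xT p ν (str A C)) (wT p ν (str A C)) (bcMap (fN p ν) χ ≫ σ)) :
    ∃ (B' : Type u) (_ : CommRing B') (_ : Algebra A B') (_ : IsOpenImmersion (str A B'))
      (ψ : B →ₐ[A] B') (χ' : B' →ₐ[A] C), χ'.comp ψ = χ ∧
      IsCompat D (xT p ν (str A B')) (wT p ν (str A B')) (bcMap (fN p ν) ψ ≫ σ) := by
  have hσ' : ∀ {B' : Type u} [CommRing B'] [Algebra A B'] (ψ : B →ₐ[A] B'),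
      (bcMap (fN p ν) ψ ≫ σ) ≫ D.obj.hom = xT p ν (str A B') := by
    intro B' _ _ ψ
    rw [Category.assoc, hσ, bcMap_xT]
  obtain ⟨B', i1, i2, i3, ψ, χ', h1, h2⟩ := exists_open_eq (f₂ p ν)
    (pullback.snd (pullback.snd p ν) (pullback.snd p ν) ≫ pullback.fst p ν) C hC D.obj.hom B χ
    (τ₀ ν D (str A B) σ hσ) (r₁ p ν (str A B) ≫ σ) (by rw [τ₀_hom]; simp)
    (by rw [Category.assoc, hσ]; simp) (by
      rw [bcMap_τ₀ ν D _ σ hσ (hσ' _), (isCompat_iff ν D _ _ (hσ' _)).mp hk, ← Category.assoc,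
        ← bcMap_r₁, Category.assoc])
  refine ⟨B', i1, i2, i3, ψ, χ', h1, ?_⟩
  rw [isCompat_iff ν D _ _ (hσ' _), ← bcMap_τ₀ ν D _ σ hσ (hσ' _), h2, ← Category.assoc, bcMap_r₁,
    Category.assoc]

/-- Spreading out representability. -/
theorem exists_rep [LocallyOfFinitePresentation p] [QuasiCompact p] [QuasiSeparated p]
    (hp : UnivSubmersive p) [Etale ν] [QuasiCompact ν] [QuasiSeparated ν]
    [Etale D.obj.hom] [QuasiCompact D.obj.hom] [QuasiSeparated D.obj.hom]
    (C : Type u) [CommRing C] [Algebra A C] (hC : IndOpen A C)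
    (r : (restr (str A C) (secFunctor D)).RepresentableBy (Over.mk (pullback.snd ν (str A C)))) :
    ∃ (B : Type u) (_ : CommRing B) (_ : Algebra A B) (_ : IsOpenImmersion (str A B))
      (_ : B →ₐ[A] C), Nonempty ((restr (str A B) (secFunctor D)).RepresentableBy
        (Over.mk (pullback.snd ν (str A B)))) := by
  let Uk : Over (Spec (CommRingCat.of C)) := Over.mk (pullback.snd ν (str A C))
  let ak : (restr (str A C) (secFunctor D)).obj (op Uk) := r.homEquiv (𝟙 Uk)
  have hWk := isPullback_xT p ν (str A C)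
  let σ₀ : bc (fN p ν) C ⟶ D.obj.left :=
    (ev (T := (Over.map (str A C)).obj Uk) ak (wT p ν (str A C)) (xT p ν (str A C)) hWk.w).1
  have hσ₀ : IsCompat D (xT p ν (str A C)) (wT p ν (str A C)) σ₀ :=
    isCompat_ev (T := (Over.map (str A C)).obj Uk) ak _ _ _
  have hw₀ : σ₀ ≫ D.obj.hom ≫ p = pullback.snd (fN p ν) (str A C) ≫ str A C := by
    rw [← Category.assoc, hσ₀.comp_hom, Category.assoc, pullback.condition]
  have hθ₀ : IsIso (pullback.lift (f := D.obj.hom ≫ p) (g := str A C) σ₀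
      (pullback.snd (fN p ν) (str A C)) hw₀) := by
    refine isIso_of_representableBy (T := Over.mk (str A C)) D Uk r (xT p ν (str A C))
      (wT p ν (str A C)) hWk (pullback.fst (D.obj.hom ≫ p) (str A C))
      (pullback.snd (D.obj.hom ≫ p) (str A C)) (IsPullback.of_hasPullback _ _) _ ?_ ?_
    · exact pullback.lift_fst _ _ _
    · rw [pullback.lift_snd]
      exact (wT_snd p ν (str A C)).symm
  obtain ⟨B₁, _, _, _, χ₁, σ₁, hσ₁, hσ₁k⟩ := exists_open (fN p ν) (pullback.fst p ν) C hC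
    D.obj.hom σ₀ hσ₀.comp_hom
  have := finitePresentation_of_isOpenImmersion A B₁
  obtain ⟨B₂, i1, i2, i3, ψ₂, χ₂, hχ₂, hcomp⟩ := exists_open_isCompat ν D hC χ₁ σ₁ hσ₁ (by
    rw [hσ₁k]; exact hσ₀)
  have := finitePresentation_of_isOpenImmersion A B₂
  let σ₂ : bc (fN p ν) B₂ ⟶ D.obj.left := bcMap (fN p ν) ψ₂ ≫ σ₁
  have hσ₂ : σ₂ ≫ D.obj.hom = pullback.fst (fN p ν) (str A B₂) ≫ pullback.fst p ν :=
    hcomp.comp_hom
  have hσ₂k : bcMap (fN p ν) χ₂ ≫ σ₂ = σ₀ := by
    rw [← hσ₁k, ← Category.assoc, bcMap_comp, hχ₂]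
  -- the comparison map
  have hw₂ : σ₂ ≫ D.obj.hom ≫ p = pullback.snd (fN p ν) (str A B₂) ≫ str A B₂ := by
    rw [reassoc_of% hσ₂, pullback.condition]
  let θ : bc (fN p ν) B₂ ⟶ bc (D.obj.hom ≫ p) B₂ :=
    pullback.lift σ₂ (pullback.snd (fN p ν) (str A B₂)) hw₂
  have hθ₁ : θ ≫ pullback.fst (D.obj.hom ≫ p) (str A B₂) = σ₂ := pullback.lift_fst _ _ _
  have hθ₂ : θ ≫ pullback.snd (D.obj.hom ≫ p) (str A B₂) = pullback.snd (fN p ν) (str A B₂) :=
    pullback.lift_snd _ _ _
  have j1 : LocallyOfFinitePresentation (θ ≫ pullback.snd (D.obj.hom ≫ p) (str A B₂)) := by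
    rw [hθ₂]; infer_instance
  have j2 : QuasiCompact (θ ≫ pullback.snd (D.obj.hom ≫ p) (str A B₂)) := by
    rw [hθ₂]; infer_instance
  have j3 : QuasiSeparated (θ ≫ pullback.snd (D.obj.hom ≫ p) (str A B₂)) := by
    rw [hθ₂]; infer_instance
  have k1 : LocallyOfFinitePresentation θ :=
    Groth.Agent.Ega43.FPOfComp.locallyOfFinitePresentation_of_comp θ
      (pullback.snd (D.obj.hom ≫ p) (str A B₂))
  have k2 : QuasiCompact θ := QuasiCompact.of_comp θ (pullback.snd (D.obj.hom ≫ p) (str A B₂))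
  have k3 : QuasiSeparated θ := QuasiSeparated.of_comp θ (pullback.snd (D.obj.hom ≫ p) (str A B₂))
  -- base change of the comparison map
  have hsq : ∀ {B : Type u} [CommRing B] [Algebra A B] (ψ : B₂ →ₐ[A] B)
      (θ' : bc (fN p ν) B ⟶ bc (D.obj.hom ≫ p) B)
      (_ : θ' ≫ pullback.fst (D.obj.hom ≫ p) (str A B) = bcMap (fN p ν) ψ ≫ σ₂)
      (_ : θ' ≫ pullback.snd (D.obj.hom ≫ p) (str A B) = pullback.snd (fN p ν) (str A B)),
      IsPullback (bcMap (fN p ν) ψ) θ' θ (bcMap (D.obj.hom ≫ p) ψ) := by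
    intro B _ _ ψ θ' h1 h2
    refine IsPullback.of_bot (h₃₁ := sp ψ) (v₂₁ := pullback.snd (D.obj.hom ≫ p) (str A B))
      (v₂₂ := pullback.snd (D.obj.hom ≫ p) (str A B₂)) ?_ ?_ (isPullback_bcMap _ ψ)
    · rw [hθ₂, h2]
      exact isPullback_bcMap (fN p ν) ψ
    · apply pullback.hom_ext
      · simp [hθ₁, h1]
      · rw [Category.assoc, hθ₂, Category.assoc, bcMap_snd, bcMap_snd, reassoc_of% h2]
  have hiso : MorphismProperty.isomorphisms Scheme.{u} (pullback.lift (f := D.obj.hom ≫ p)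
    (g := str A C) σ₀ (pullback.snd (fN p ν) (str A C)) hw₀) := hθ₀
  obtain ⟨B, i4, i5, i6, ψ, χ, hχ, hB⟩ := exists_open_prop (fN p ν) C descendsLim_isomorphisms hC
    (D.obj.hom ≫ p) B₂ χ₂ θ _ (hsq χ₂ _ ((pullback.lift_fst _ _ _).trans hσ₂k.symm)
      (pullback.lift_snd _ _ _)) hiso
  refine ⟨B, i4, i5, i6, χ, ?_⟩
  have hc' : IsCompat D (xT p ν (str A B)) (wT p ν (str A B)) (bcMap (fN p ν) ψ ≫ σ₂) :=
    hcomp.comp (bcMap (fN p ν) ψ) (bcMap ν ψ) _ _ (bcMap_xT ν ψ).symm (bcMap_wT ν ψ)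
  have hWt := isPullback_xT p ν (str A B)
  obtain ⟨a, ha⟩ := exists_sec_of_isCompat
    (T := (Over.map (str A B)).obj (Over.mk (pullback.snd ν (str A B)))) hWt hc'
  have hw : (bcMap (fN p ν) ψ ≫ σ₂) ≫ D.obj.hom ≫ p =
      pullback.snd (fN p ν) (str A B) ≫ str A B := by
    rw [← Category.assoc, hc'.comp_hom, Category.assoc, pullback.condition]
  have hiso' : IsIso (pullback.lift (f := D.obj.hom ≫ p) (g := str A B)
      (bcMap (fN p ν) ψ ≫ σ₂) (pullback.snd (fN p ν) (str A B)) hw) :=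
    hB _ (hsq ψ _ (pullback.lift_fst _ _ _) (pullback.lift_snd _ _ _))
  have het : Etale (Over.mk (pullback.snd ν (str A B))).hom :=
    inferInstanceAs (Etale (pullback.snd ν (str A B)))
  exact ⟨repOfTrivialization (T := Over.mk (str A B)) hp D
    (Over.mk (pullback.snd ν (str A B))) a (xT p ν (str A B)) (wT p ν (str A B)) hWt
    (pullback.fst (D.obj.hom ≫ p) (str A B)) (pullback.snd (D.obj.hom ≫ p) (str A B))
    (IsPullback.of_hasPullback _ _) (pullback.lift (f := D.obj.hom ≫ p) (g := str A B)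
      (bcMap (fN p ν) ψ ≫ σ₂) (pullback.snd (fN p ν) (str A B)) hw)
    ((pullback.lift_fst _ _ _).trans ha.symm)
    ((pullback.lift_snd _ _ _).trans (wT_snd p ν (str A B)).symm)⟩

end K150.LocRep
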