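import Groth.Agent.SGA1.K150.SteinBasic
import Groth.Agent.Pi1.H398.Triv

/-!
# Comparison of the Stein factorization with the base, sufficiency
-/

set_option autoImplicit false
set_option backward.isDefEq.respectTransparency false
set_option backward.isDefEq.respectTransparency.types false

open CategoryTheory CategoryTheory.Limits AlgebraicGeometry

universe u

namespace K150.SteinBack

variable {X X' S : Scheme.{u}} (f : X ⟶ S) (g : X' ⟶ X)

/-- The morphism between the fibres. -/
noncomputable abbrev fm (s : S) : pullback (g ≫ f) (S.fromSpecResidueField s) ⟶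
    pullback f (S.fromSpecResidueField s) :=
  pullback.map (g ≫ f) (S.fromSpecResidueField s) f (S.fromSpecResidueField s) g (𝟙 _) (𝟙 S)
        (Category.comp_id _) ((Category.comp_id _).trans (Category.id_comp _).symm)

/-- Points of the fibre. -/
theorem exists_fibre_point {Y : Scheme.{u}} (h : Y ⟶ S) (s : S) (y : Y) (hy : h y = s) :
    ∃ z : ↥(pullback h (S.fromSpecResidueField s)),
      pullback.fst h (S.fromSpecResidueField s) z = y := by
  obtain ⟨z, hz, -⟩ := Scheme.exists_preimage_of_isPullback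
    (IsPullback.of_hasPullback h (S.fromSpecResidueField s)) y default (by
      rw [hy]; exact (S.fromSpecResidueField_apply _ _).symm)
  exact ⟨z, hz⟩

theorem backward [IsProper f] (hO : ∀ U : S.Opens, Function.Bijective (f.app U).hom) [IsProper g]
    (c : X' ⟶ pullback f (g ≫ f).fromNormalization)
    (hc1 : c ≫ pullback.fst f (g ≫ f).fromNormalization = g)
    (hc2 : c ≫ pullback.snd f (g ≫ f).fromNormalization = (g ≫ f).toNormalization)
    (s : S) (s' : ↥((g ≫ f).normalization)) (hs' : (g ≫ f).fromNormalization s' = s)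
    (C : (pullback (g ≫ f) (S.fromSpecResidueField s)).Opens)
    (hC : ∀ x : ↥(pullback (g ≫ f) (S.fromSpecResidueField s)),
      x ∈ C ↔ (g ≫ f).toNormalization
        ((pullback.fst (g ≫ f) (S.fromSpecResidueField s)) x) = s')
    (het : ∀ x : C, (pullback.fst (g ≫ f) (S.fromSpecResidueField s)) x.1 ∈ Pi1X.etaleLocus g)
    (hF : IsFinite (C.ι ≫ fm f g s)) (hE : Etale (C.ι ≫ fm f g s))
    (hsplit : Pi1.IsSplit ((FEt.restrict (pullback.fst (pullback.snd f (S.fromSpecResidueField s))
            (Spec.map (CommRingCat.ofHom (algebraMap (S.residueField s)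
              (AlgebraicClosure (S.residueField s))))))).obj
            (MorphismProperty.Over.mk ⊤ (C.ι ≫ fm f g s) ⟨hF, hE⟩))) :
    ∃ U' : ((g ≫ f).normalization).Opens, s' ∈ U' ∧ Etale (U'.ι ≫ (g ≫ f).fromNormalization) ∧
        IsIso (c ∣_ ((pullback.snd f (g ≫ f).fromNormalization) ⁻¹ᵁ U')) := by
  have hiso : IsIso f.fromNormalization := SteinBasic.isIso_fromNormalization f hO
  have hsurj : Surjective f := by
    have := Groth.Agent.Pi1.H398.UHNorm.surjective_toNormalization f
    rw [← f.toNormalization_fromNormalization]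
    infer_instance
  have hne : Nonempty C := by
    obtain ⟨y, hy⟩ := (Groth.Agent.Pi1.H398.UHNorm.surjective_toNormalization (g ≫ f)).surj s'
    obtain ⟨z, hz⟩ := exists_fibre_point (g ≫ f) s y (by
      have h1 := Scheme.Hom.comp_apply (g ≫ f).toNormalization (g ≫ f).fromNormalization y
      rw [(g ≫ f).toNormalization_fromNormalization] at h1
      rw [h1]
      exact (congrArg _ hy).trans hs')
    exact ⟨⟨z, (hC z).2 (by rw [hz]; exact hy)⟩⟩
  obtain ⟨T, t, ht, h, hh, hg, x₀, c₀, hc₀⟩ :=
    Groth.Agent.Pi1.H398.Triv.exists_etale_nbhd f g s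
    (Pi1X.etaleLocus g) (Groth.Agent.Pi1.H398.SecLift.etale_etaleLocus g)
    (Cs := (C : Scheme.{u})) (C.ι ≫ pullback.fst (g ≫ f) (S.fromSpecResidueField s))
    (C.ι ≫ fm f g s) (by
      simp only [fm, pullback.map, Category.assoc, pullback.lift_fst])
    (fun c => het c) (MorphismProperty.Over.mk ⊤ (C.ι ≫ fm f g s) ⟨hF, hE⟩) (𝟙 _)
    (Category.id_comp _) hne hsplit
  obtain ⟨N, hN, hNe, sq⟩ := Groth.Agent.Pi1.H398.SteinNbhd.exists_open f g t h hg
  have e1 : (N.ι ≫ Groth.Agent.Pi1.H398.SteinNbhd.stMap f g) ≫ f.fromNormalization =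
      N.ι ≫ (g ≫ f).fromNormalization := by
    rw [Category.assoc, Groth.Agent.Pi1.H398.SteinNbhd.stMap_fromNormalization]
  refine ⟨N, ?_, ?_, ?_⟩
  · have h1 := hN x₀
    rw [hc₀] at h1
    have h2 := (hC c₀.1).1 c₀.2
    have h3 : (g ≫ f).toNormalization ((C.ι ≫ pullback.fst (g ≫ f)
        (S.fromSpecResidueField s)) c₀) = s' := h2
    rw [h3] at h1
    exact h1
  · rw [← e1]
    infer_instance
  · rw [SteinBasic.isIso_restrict_iff g (g ≫ f).toNormalization c hc1 hc2 N]
    have h4 : IsPullback (𝟙 X) f.toNormalization f f.fromNormalization :=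
      IsPullback.of_horiz_isIso ⟨by simp⟩
    have h5 := sq.paste_horiz h4
    rw [e1, Category.comp_id] at h5
    exact h5

end K150.SteinBack
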