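import Groth.Agent.FlatA.AppIso
import Mathlib.AlgebraicGeometry.Morphisms.Proper
import Mathlib.AlgebraicGeometry.Morphisms.Etale

/-!
# The Stein factorization: basic lemmas

* `isIso_fromNormalization`: `f_* O_X = O_S`, `f` proper, implies that `f` is its own Stein factor.
* `isIso_restrict_iff`: a morphism `c : A ⟶ X ×_S S'` is an isomorphism over the open `N` of `S'` iff
  the square formed by `A|_N`, `X`, `N`, `S` is cartesian.
-/

set_option autoImplicit false
set_option backward.isDefEq.respectTransparency false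
set_option backward.isDefEq.respectTransparency.types false

open CategoryTheory CategoryTheory.Limits AlgebraicGeometry

universe u

namespace K150.SteinBasic

theorem isIso_fromNormalization {X S : Scheme.{u}} (f : X ⟶ S) [IsProper f]
    (hO : ∀ U : S.Opens, Function.Bijective (f.app U).hom) : IsIso f.fromNormalization := by
  have key : ∀ O : S.affineOpens, IsIso (f.fromNormalization ∣_ (O : S.Opens)) := by
    intro O
    have h1 : IsIso (f.toNormalization.app (f.fromNormalization ⁻¹ᵁ (O : S.Opens))) :=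
      Groth.Agent.FlatA.AppIso.isIso_toNormalization_app f _
    have h2 : (f.toNormalization ≫ f.fromNormalization).app (O : S.Opens) =
        f.fromNormalization.app (O : S.Opens) ≫
          f.toNormalization.app (f.fromNormalization ⁻¹ᵁ (O : S.Opens)) := Scheme.Hom.comp_app _ _ _
    have h3 : IsIso (f.app (O : S.Opens)) :=
      (ConcreteCategory.isIso_iff_bijective (f.app (O : S.Opens))).mpr (hO _)
    have h4 : IsIso ((f.toNormalization ≫ f.fromNormalization).app (O : S.Opens)) := by
      rw [f.toNormalization_fromNormalization]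
      exact h3
    rw [h2] at h4
    have h5 : IsIso (f.fromNormalization.app (O : S.Opens)) :=
      IsIso.of_isIso_comp_right _ (f.toNormalization.app (f.fromNormalization ⁻¹ᵁ (O : S.Opens)))
    exact (isIso_morphismRestrict_iff_isIso_app f.fromNormalization O.2).mpr h5
  exact (IsZariskiLocalAtTarget.iff_of_iSup_eq_top (P := MorphismProperty.isomorphisms Scheme.{u})
    (f := f.fromNormalization) (fun O : S.affineOpens => (O : S.Opens))
      (iSup_affineOpens_eq_top S)).mpr key

theorem isIso_restrict_iff {X S S' A : Scheme.{u}} {f : X ⟶ S} {b : S' ⟶ S} (g : A ⟶ X)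
    (a : A ⟶ S') (c : A ⟶ pullback f b) (h1 : c ≫ pullback.fst f b = g)
    (h2 : c ≫ pullback.snd f b = a) (N : S'.Opens) :
    IsIso (c ∣_ (pullback.snd f b ⁻¹ᵁ N)) ↔ IsPullback ((a ⁻¹ᵁ N).ι ≫ g) (a ∣_ N) f (N.ι ≫ b) := by
  subst h1 h2
  let V := pullback.snd f b ⁻¹ᵁ N
  have hR : IsPullback (V.ι ≫ pullback.fst f b) (pullback.snd f b ∣_ N) f (N.ι ≫ b) :=
    (isPullback_morphismRestrict (pullback.snd f b) N).flip.paste_horiz
      (IsPullback.of_hasPullback f b)
  have e1 : (c ≫ pullback.snd f b) ∣_ N = c ∣_ V ≫ pullback.snd f b ∣_ N :=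
    morphismRestrict_comp _ _ _
  have e2 : ((c ≫ pullback.snd f b) ⁻¹ᵁ N).ι ≫ c ≫ pullback.fst f b =
      c ∣_ V ≫ V.ι ≫ pullback.fst f b := by
    have : c ∣_ V ≫ V.ι = (c ⁻¹ᵁ V).ι ≫ c := morphismRestrict_ι c V
    rw [reassoc_of% this]
    rfl
  rw [e1, e2]
  constructor
  · intro h
    have h3 : IsPullback (c ∣_ V) (c ∣_ V ≫ pullback.snd f b ∣_ N) (pullback.snd f b ∣_ N)
        (𝟙 _) := IsPullback.of_horiz_isIso ⟨by simp⟩
    have := h3.paste_horiz hR
    rwa [Category.id_comp] at this
  · intro h
    have h3 : IsPullback (c ∣_ V) (c ∣_ V ≫ pullback.snd f b ∣_ N) (pullback.snd f b ∣_ N)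
        (𝟙 _) := IsPullback.of_right (by simpa using h) (by simp) hR
    exact h3.isIso_fst_of_isIso

end K150.SteinBasic
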