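import Groth.Agent.SGA1.K150.SteinBasic
import Groth.Agent.Pi1.H384.SplitBasic
import Groth.Agent.Lefpen.H416.Spl
import Groth.Agent.Pi1A.FEtAffine
import Groth.Prelude.Def_Pi1X

/-!
# Comparison of the Stein factorization with the base, necessity
-/

set_option autoImplicit false
set_option backward.isDefEq.respectTransparency false
set_option backward.isDefEq.respectTransparency.types false

open CategoryTheory CategoryTheory.Limits AlgebraicGeometry

universe u

namespace K150.SteinFwd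

variable {X X' S : Scheme.{u}} (f : X ⟶ S) (g : X' ⟶ X)

/-- The morphism between the fibres. -/
noncomputable abbrev fm (s : S) : pullback (g ≫ f) (S.fromSpecResidueField s) ⟶
    pullback f (S.fromSpecResidueField s) :=
  pullback.map (g ≫ f) (S.fromSpecResidueField s) f (S.fromSpecResidueField s) g (𝟙 _) (𝟙 S)
        (Category.comp_id _) ((Category.comp_id _).trans (Category.id_comp _).symm)

theorem locallyQuasiFinite_of_etale {U X : Scheme.{u}} (f : U ⟶ X) [Etale f] :
    LocallyQuasiFinite f where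
  quasiFinite_appLE {V} hV {W} hW e := by
    have h := HasRingHomProperty.appLE @Etale f ‹_› ⟨V, hV⟩ ⟨W, hW⟩ e
    algebraize [(f.appLE V W e).hom]
    exact inferInstanceAs (Algebra.QuasiFinite _ _)

/-- Splitting of a base change of a finite etale scheme over a field. -/
theorem isSplit_of_isPullback {κ : Type u} [Field κ] {Y C T : Scheme.{u}}
    (q : Y ⟶ Spec (CommRingCat.of κ)) (τ : T ⟶ Spec (CommRingCat.of κ)) (ρ : C ⟶ Y) (m : C ⟶ T)
    (h : IsPullback ρ m q τ) [IsFinite τ] [Etale τ] (hF : IsFinite ρ) (hE : Etale ρ) :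
    Pi1.IsSplit ((FEt.restrict (pullback.fst q
      (Spec.map (CommRingCat.ofHom (algebraMap κ (AlgebraicClosure κ)))))).obj
        (MorphismProperty.Over.mk ⊤ ρ ⟨hF, hE⟩)) := by
  let Z₀ : FEt.Cat (Spec (CommRingCat.of κ)) :=
    MorphismProperty.Over.mk ⊤ τ ⟨inferInstance, inferInstance⟩
  let al : Spec (CommRingCat.of (AlgebraicClosure κ)) ⟶ Spec (CommRingCat.of κ) :=
    Spec.map (CommRingCat.ofHom (algebraMap κ (AlgebraicClosure κ)))
  let Z : FEt.Cat Y := MorphismProperty.Over.mk ⊤ ρ ⟨hF, hE⟩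
  let e : Z ≅ (FEt.restrict q).obj Z₀ :=
    Groth.Agent.Pi1A.FEtAffine.isoMk (T := Z) (T' := (FEt.restrict q).obj Z₀)
      h.flip.isoPullback (h.flip.isoPullback_hom_snd)
  have h1 : Pi1.IsSplit ((FEt.restrict al).obj Z₀) :=
    Groth.Agent.Lefpen.H416.Spl.isSplit_of_isSepClosed _
  have h2 := Groth.Agent.Pi1.H384.SplitBasic.isSplit_restrict (pullback.snd q al) h1
  let e1 : (FEt.restrict (pullback.snd q al)).obj ((FEt.restrict al).obj Z₀) ≅
      (FEt.restrict (pullback.snd q al ≫ al)).obj Z₀ :=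
    ((Groth.Agent.Pi1A.FEtAffine.restrictComp (pullback.snd q al) al).app Z₀).symm
  let e2 : (FEt.restrict (pullback.fst q al ≫ q)).obj Z₀ ≅
      (FEt.restrict (pullback.fst q al)).obj ((FEt.restrict q).obj Z₀) :=
    (Groth.Agent.Pi1A.FEtAffine.restrictComp (pullback.fst q al) q).app Z₀
  have h3 : (FEt.restrict (pullback.snd q al ≫ al)).obj Z₀ =
      (FEt.restrict (pullback.fst q al ≫ q)).obj Z₀ := by
    rw [pullback.condition]
  exact Groth.Agent.Pi1.H384.SplitBasic.isSplit_of_iso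
    (e1 ≪≫ eqToIso h3 ≪≫ e2 ≪≫ (FEt.restrict (pullback.fst q al)).mapIso e.symm) h2

theorem forward [IsProper g] [QuasiCompact (g ≫ f)] [QuasiSeparated (g ≫ f)]
    (c : X' ⟶ pullback f (g ≫ f).fromNormalization)
    (hc1 : c ≫ pullback.fst f (g ≫ f).fromNormalization = g)
    (hc2 : c ≫ pullback.snd f (g ≫ f).fromNormalization = (g ≫ f).toNormalization)
    (s : S) (s' : ↥((g ≫ f).normalization))
    (C : (pullback (g ≫ f) (S.fromSpecResidueField s)).Opens)
    (hC : ∀ x : ↥(pullback (g ≫ f) (S.fromSpecResidueField s)),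
      x ∈ C ↔ (g ≫ f).toNormalization
        ((pullback.fst (g ≫ f) (S.fromSpecResidueField s)) x) = s')
    (U' : ((g ≫ f).normalization).Opens) (hsU : s' ∈ U')
    (hU : Etale (U'.ι ≫ (g ≫ f).fromNormalization))
    (hiso : IsIso (c ∣_ ((pullback.snd f (g ≫ f).fromNormalization) ⁻¹ᵁ U'))) :
    (∀ x : C, (pullback.fst (g ≫ f) (S.fromSpecResidueField s)) x.1 ∈ Pi1X.etaleLocus g) ∧
        ∃ (hF : IsFinite (C.ι ≫ fm f g s)) (hE : Etale (C.ι ≫ fm f g s)),
          Pi1.IsSplit ((FEt.restrict (pullback.fst (pullback.snd f (S.fromSpecResidueField s))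
            (Spec.map (CommRingCat.ofHom (algebraMap (S.residueField s)
              (AlgebraicClosure (S.residueField s))))))).obj
            (MorphismProperty.Over.mk ⊤ (C.ι ≫ fm f g s) ⟨hF, hE⟩)) := by
  rw [SteinBasic.isIso_restrict_iff g (g ≫ f).toNormalization c hc1 hc2 U'] at hiso
  let W := (g ≫ f).toNormalization ⁻¹ᵁ U'
  let b : (U' : Scheme.{u}) ⟶ S := U'.ι ≫ (g ≫ f).fromNormalization
  let k := S.fromSpecResidueField s
  have hWC : ∀ x : C, pullback.fst (g ≫ f) k x.1 ∈ W := fun x => by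
    change (g ≫ f).toNormalization (pullback.fst (g ≫ f) k x.1) ∈ U'
    rw [(hC x.1).1 x.2]
    exact hsU
  refine ⟨fun x => ?_, ?_⟩
  · have h1 : Etale (W.ι ≫ g) := MorphismProperty.of_isPullback (P := @Etale) hiso.flip hU
    exact (le_sSup (show W ∈ {U : X'.Opens | Etale (U.ι ≫ g)} from h1)) (hWC x)
  -- the fibre of `U'`
  let T := pullback b k
  have hTe : Etale (pullback.snd b k) := inferInstance
  have hTq : LocallyQuasiFinite (pullback.snd b k) := locallyQuasiFinite_of_etale _
  have hTd : DiscreteTopology T := by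
    have : IsLocallyArtinian T := .of_locallyQuasiFinite (pullback.snd b k)
    infer_instance
  let T₀ : T.Opens := ⟨{t | U'.ι (pullback.fst b k t) = s'}, isOpen_discrete _⟩
  have hT₀ : Subsingleton T₀ := by
    refine ⟨fun x y => Subtype.ext ?_⟩
    apply (pullback.fst b k).isEmbedding.injective
    apply U'.ι.isEmbedding.injective
    exact (show U'.ι (pullback.fst b k x.1) = s' from x.2).trans
      (show U'.ι (pullback.fst b k y.1) = s' from y.2).symm
  let τ : (T₀ : Scheme.{u}) ⟶ Spec (S.residueField s) := T₀.ι ≫ pullback.snd b k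
  have hTc : CompactSpace (T₀ : Scheme.{u}) := by
    have : Finite (T₀ : Scheme.{u}) := inferInstanceAs (Finite T₀)
    infer_instance
  have hτe : Etale τ := inferInstance
  have hτq : QuasiCompact τ := (quasiCompact_iff_compactSpace τ).mpr hTc
  have hτl : LocallyQuasiFinite τ := locallyQuasiFinite_of_etale _
  have hτf : IsFinite τ := IsFinite.of_locallyQuasiFinite τ
  -- the maps from `C`
  let a : (W : Scheme.{u}) ⟶ U' := (g ≫ f).toNormalization ∣_ U'
  have ha : a ≫ U'.ι = W.ι ≫ (g ≫ f).toNormalization := morphismRestrict_ι _ _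
  let l : (C : Scheme.{u}) ⟶ W := IsOpenImmersion.lift W.ι (C.ι ≫ pullback.fst (g ≫ f) k) (by
    rw [Scheme.Opens.range_ι]
    rintro _ ⟨x, rfl⟩
    exact hWC x)
  have hl : l ≫ W.ι = C.ι ≫ pullback.fst (g ≫ f) k := IsOpenImmersion.lift_fac _ _ _
  have hla : l ≫ a ≫ U'.ι = C.ι ≫ pullback.fst (g ≫ f) k ≫ (g ≫ f).toNormalization := by
    rw [ha, reassoc_of% hl]
  have hmw : (l ≫ a) ≫ b = (C.ι ≫ pullback.snd (g ≫ f) k) ≫ k := by
    have e1 : (l ≫ a) ≫ b = (l ≫ a ≫ U'.ι) ≫ (g ≫ f).fromNormalization := by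
      simp only [b, Category.assoc]
    rw [e1, hla]
    simp only [Category.assoc]
    rw [(g ≫ f).toNormalization_fromNormalization, pullback.condition]
  let m : (C : Scheme.{u}) ⟶ T := pullback.lift (l ≫ a) (C.ι ≫ pullback.snd (g ≫ f) k) hmw
  have hm1 : m ≫ pullback.fst b k = l ≫ a := pullback.lift_fst _ _ _
  have hm2 : m ≫ pullback.snd b k = C.ι ≫ pullback.snd (g ≫ f) k := pullback.lift_snd _ _ _
  let m₀ : (C : Scheme.{u}) ⟶ T₀ := IsOpenImmersion.lift T₀.ι m (by
    rw [Scheme.Opens.range_ι]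
    rintro _ ⟨x, rfl⟩
    change U'.ι (pullback.fst b k (m x)) = s'
    rw [← Scheme.Hom.comp_apply, ← Scheme.Hom.comp_apply, reassoc_of% hm1, hla]
    exact (hC x.1).1 x.2)
  have hm₀ : m₀ ≫ T₀.ι = m := IsOpenImmersion.lift_fac _ _ _
  let j : (T₀ : Scheme.{u}) ⟶ U' := T₀.ι ≫ pullback.fst b k
  have hjb : j ≫ b = τ ≫ k := by
    simp only [j, τ, Category.assoc, pullback.condition]
  have sqC : IsPullback l m₀ a j := by
    have hw : l ≫ a = m₀ ≫ j := by
      simp only [j]
      rw [reassoc_of% hm₀, hm1]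
    have hjm : Mono j := inferInstance
    have hlm : Mono l := by
      have : Mono (l ≫ W.ι) := by rw [hl]; infer_instance
      exact mono_of_mono l W.ι
    have key : ∀ (Z : Scheme.{u}) (z₁ : Z ⟶ W) (z₂ : Z ⟶ T₀), z₁ ≫ a = z₂ ≫ j →
        ∃ z : Z ⟶ C, z ≫ l = z₁ := by
      intro Z z₁ z₂ h
      have hz : (z₁ ≫ W.ι) ≫ g ≫ f = (z₂ ≫ τ) ≫ k := by
        have e1 : (z₁ ≫ W.ι) ≫ g ≫ f = (z₁ ≫ a) ≫ b := by
          simp only [b, Category.assoc, reassoc_of% ha,
            (g ≫ f).toNormalization_fromNormalization]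
        rw [e1, h, Category.assoc, hjb]
        exact (Category.assoc _ _ _).symm
      let y : Z ⟶ pullback (g ≫ f) k := pullback.lift (z₁ ≫ W.ι) (z₂ ≫ τ) hz
      have hy : y ≫ pullback.fst (g ≫ f) k = z₁ ≫ W.ι := pullback.lift_fst _ _ _
      have hr : Set.range y ⊆ Set.range C.ι := by
        rw [Scheme.Opens.range_ι]
        rintro _ ⟨x, rfl⟩
        refine (hC _).2 ?_
        rw [← Scheme.Hom.comp_apply, ← Scheme.Hom.comp_apply, reassoc_of% hy, ← ha,
          reassoc_of% h]
        simp only [j, Category.assoc, Scheme.Hom.comp_apply]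
        exact (z₂ x).2
      refine ⟨IsOpenImmersion.lift C.ι y hr, ?_⟩
      rw [← cancel_mono W.ι, Category.assoc, hl, IsOpenImmersion.lift_fac_assoc, hy]
    refine ⟨⟨hw⟩, ⟨PullbackCone.IsLimit.mk hw
      (fun s => (key s.pt s.fst s.snd s.condition).choose)
      (fun s => (key s.pt s.fst s.snd s.condition).choose_spec)
      (fun s => ?_) (fun s m' h1 _ => ?_)⟩⟩
    · rw [← cancel_mono j, Category.assoc, ← hw, ← Category.assoc,
        (key s.pt s.fst s.snd s.condition).choose_spec, s.condition]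
    · rw [← cancel_mono l, h1, (key s.pt s.fst s.snd s.condition).choose_spec]
  have sq2 : IsPullback (l ≫ W.ι ≫ g) m₀ f (τ ≫ k) := by
    have := sqC.paste_horiz hiso
    rw [← hjb]
    exact this
  have sq3 : IsPullback (C.ι ≫ fm f g s) m₀ (pullback.snd f k) τ := by
    refine IsPullback.of_right (h₁₂ := pullback.fst f k) (v₁₃ := f) (h₂₂ := k) ?_ ?_
      (IsPullback.of_hasPullback f k)
    · have e1 : (C.ι ≫ fm f g s) ≫ pullback.fst f k = l ≫ W.ι ≫ g := by
        rw [reassoc_of% hl]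
        simp only [fm, pullback.map, Category.assoc, pullback.lift_fst, k]
      rw [e1]
      exact sq2
    · simp only [fm, pullback.map, Category.assoc, pullback.lift_snd, k, τ, Category.comp_id]
      rw [reassoc_of% hm₀]
      exact hm2.symm
  have hF : IsFinite (C.ι ≫ fm f g s) :=
    MorphismProperty.of_isPullback (P := @IsFinite) sq3.flip hτf
  have hE : Etale (C.ι ≫ fm f g s) := MorphismProperty.of_isPullback (P := @Etale) sq3.flip hτe
  exact ⟨hF, hE, isSplit_of_isPullback (pullback.snd f k) τ _ m₀ sq3 hF hE⟩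

end K150.SteinFwd
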